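import Cfsg.Agent.Lib.Classical.Unitary.Field

/-!
The field with `q ^ 2` elements over the field with `q` elements, adapted to an anisotropic binary
form `z₁² + a z₁ z₂ + b z₂²`.
-/

set_option autoImplicit false

namespace CfsgLib.Classical.SmallOrtho

open Polynomial CfsgLib.Classical.Herm

variable {F K : Type*} [Field F] [Fintype F] [Field K] [Fintype K] {q : ℕ}

/-- The data of a quadratic extension adapted to a binary form. -/
structure QuadExt (F K : Type*) [Field F] [Field K] (a b : F) where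
  /-- The embedding. -/
  ψ : F →+* K
  /-- The conjugation. -/
  σ : K →+* K
  /-- The adapted element. -/
  θ : K
  invol : ∀ x, σ (σ x) = x
  fixed : ∀ x, σ x = x ↔ x ∈ ψ.range
  trace_θ : θ + σ θ = ψ a
  norm_θ : θ * σ θ = ψ b
  ne : θ ≠ σ θ

theorem QuadExt.σ_ψ {F K : Type*} [Field F] [Field K] {a b : F} (X : QuadExt F K a b) (x : F) :
    X.σ (X.ψ x) = X.ψ x := (X.fixed _).2 ⟨x, rfl⟩

theorem QuadExt.coord_unique {F K : Type*} [Field F] [Field K] {a b : F} (X : QuadExt F K a b)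
    {x y x' y' : F} (h : X.ψ x + X.θ * X.ψ y = X.ψ x' + X.θ * X.ψ y') : x = x' ∧ y = y' := by
  have h' := congrArg X.σ h
  simp only [map_add, map_mul, X.σ_ψ] at h'
  have hy : (X.θ - X.σ X.θ) * (X.ψ y - X.ψ y') = 0 := by linear_combination h - h'
  have hy' : X.ψ y = X.ψ y' :=
    sub_eq_zero.1 ((mul_eq_zero.1 hy).resolve_left (sub_ne_zero.2 X.ne))
  exact ⟨X.ψ.injective (by rw [hy'] at h; exact add_right_cancel h), X.ψ.injective hy'⟩

theorem QuadExt.exists_coord {F K : Type*} [Field F] [Field K] {a b : F} (X : QuadExt F K a b)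
    (w : K) : ∃ x y : F, w = X.ψ x + X.θ * X.ψ y := by
  have hd : X.θ - X.σ X.θ ≠ 0 := sub_ne_zero.2 X.ne
  have hd' : X.σ X.θ - X.θ ≠ 0 := sub_ne_zero.2 X.ne.symm
  have hy : X.σ ((w - X.σ w) / (X.θ - X.σ X.θ)) = (w - X.σ w) / (X.θ - X.σ X.θ) := by
    rw [map_div₀, map_sub, map_sub, X.invol, X.invol, ← neg_sub w, ← neg_sub X.θ, neg_div_neg_eq]
  obtain ⟨y, hy'⟩ := (X.fixed _).1 hy
  have hx : X.σ (w - X.θ * X.ψ y) = w - X.θ * X.ψ y := by
    rw [map_sub, map_mul, X.σ_ψ, hy']
    field_simp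
    ring
  obtain ⟨x, hx'⟩ := (X.fixed _).1 hx
  exact ⟨x, y, by rw [hx']; ring⟩

theorem exists_quadExt (hF : Fintype.card F = q) (hK : Fintype.card K = q ^ 2) {a b : F}
    (hab : ∀ z₁ z₂ : F, z₁ ^ 2 + a * z₁ * z₂ + b * z₂ ^ 2 = 0 → z₁ = 0 ∧ z₂ = 0) :
    ∃ X : QuadExt F K a b, ∀ x, X.σ x = x ^ q := by
  classical
  set g : F[X] := C (1 : F) * X ^ 2 + C (-a) * X + C b with hg
  have hdeg : g.natDegree = 2 := natDegree_quadratic one_ne_zero
  have hroot : ∀ x : F, ¬ g.IsRoot x := by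
    intro x hx
    have hx' : x ^ 2 - a * x + b = 0 := by
      simp [hg, IsRoot] at hx
      linear_combination hx
    exact one_ne_zero (hab (-x) 1 (by linear_combination hx')).2
  haveI hirr : Fact (Irreducible g) :=
    ⟨irreducible_of_degree_le_three_of_not_isRoot (Finset.mem_Icc.2 ⟨by omega, by omega⟩) hroot⟩
  have hg0 : g ≠ 0 := hirr.out.ne_zero
  have : Module.Finite F (AdjoinRoot g) := (AdjoinRoot.powerBasis hg0).finite
  have : Finite (AdjoinRoot g) := Module.finite_of_finite F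
  letI : Fintype (AdjoinRoot g) := Fintype.ofFinite _
  have hcard : Fintype.card (AdjoinRoot g) = q ^ 2 := by
    rw [Module.card_eq_pow_finrank (K := F) (V := AdjoinRoot g), hF,
      (AdjoinRoot.powerBasis hg0).finrank, AdjoinRoot.powerBasis_dim, hdeg]
  let e : AdjoinRoot g ≃+* K := FiniteField.ringEquivOfCardEq (by rw [hcard, hK])
  set ψ : F →+* K := e.toRingHom.comp (AdjoinRoot.of g) with hψ
  set θ : K := e (AdjoinRoot.root g) with hθ
  set σ : K →+* K := powHom hK with hσ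
  have hσψ : ∀ x, σ (ψ x) = ψ x := fun x => by
    rw [hσ, powHom_apply, ← map_pow, ← hF, FiniteField.pow_card]
  have hfix : ∀ x, σ x = x ↔ x ∈ ψ.range := by
    have hc : Nat.card (fixedSub σ) = Nat.card (Set.range ψ) := by
      rw [Nat.card_range_of_injective ψ.injective, hσ, card_fixed_powHom hK,
        Nat.card_eq_fintype_card, hF]
    have hsub : Set.range ψ ⊆ (fixedSub σ : Set K) := by
      rintro _ ⟨x, rfl⟩
      exact mem_fixedSub.2 (hσψ x)
    have heq : Set.range ψ = (fixedSub σ : Set K) :=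
      Set.eq_of_subset_of_ncard_le hsub (by
        rw [← Nat.card_coe_set_eq, ← Nat.card_coe_set_eq]
        exact le_of_eq hc) (Set.toFinite _)
    intro x
    rw [RingHom.mem_range]
    exact ⟨fun h => (Set.ext_iff.1 heq x).2 h, fun ⟨y, hy⟩ => hy ▸ hσψ y⟩
  have hquad : θ ^ 2 - ψ a * θ + ψ b = 0 := by
    have h1 := congrArg e (AdjoinRoot.eval₂_root g)
    simp [hg, eval₂_add, eval₂_mul, eval₂_pow] at h1
    simp only [hψ, hθ, RingHom.comp_apply, RingEquiv.toRingHom_eq_coe, RingEquiv.coe_toRingHom]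
    linear_combination h1
  have hne : θ ≠ σ θ := by
    intro h
    obtain ⟨x, hx⟩ := (hfix θ).1 h.symm
    refine hroot x ?_
    rw [← hx, ← map_pow, ← map_mul, ← map_sub, ← map_add, map_eq_zero] at hquad
    simp [hg, IsRoot]
    linear_combination hquad
  have hquad' : σ θ ^ 2 - ψ a * σ θ + ψ b = 0 := by
    have := congrArg σ hquad
    rwa [map_add, map_sub, map_mul, map_pow, hσψ, hσψ, map_zero] at this
  have htr : θ + σ θ = ψ a := by
    have : (θ - σ θ) * (θ + σ θ - ψ a) = 0 := by linear_combination hquad - hquad'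
    exact sub_eq_zero.1 ((mul_eq_zero.1 this).resolve_left (sub_ne_zero.2 hne))
  refine ⟨⟨ψ, σ, θ, (powHom_isInvol hK).invol, hfix, htr, ?_, hne⟩, powHom_apply hK⟩
  linear_combination θ * htr - hquad

end CfsgLib.Classical.SmallOrtho
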