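import Cfsg.Agent.Lib.Classical.SmallOrtho.Two
import Cfsg.Agent.Lib.Classical.SmallOrtho.Ext
import Cfsg.Agent.Lib.Classical.OrthogonalTwoSmall

/-!
`PΩ⁻₄(q)`.
-/

set_option autoImplicit false

namespace CfsgLib.Classical.SmallOrtho

open QuadraticMap CfsgLib.Classical.Quad CfsgLib.Classical.Two Matrix
open scoped MatrixGroups commutatorElement

variable {F K : Type*} [Field F] [Field K] {a b : F}

/-- The conjugate transpose. -/
def conjT {n : Type*} (σ : K →+* K) (M : Matrix n n K) : Matrix n n K := (M.map σ)ᵀ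

theorem conjT_mul {n : Type*} [Fintype n] (σ : K →+* K) (M N : Matrix n n K) :
    conjT σ (M * N) = conjT σ N * conjT σ M := by
  rw [conjT, Matrix.map_mul, Matrix.transpose_mul, conjT, conjT]

theorem conjT_one {n : Type*} [DecidableEq n] (σ : K →+* K) : conjT σ (1 : Matrix n n K) = 1 := by
  rw [conjT, Matrix.map_one _ (map_zero σ) (map_one σ), Matrix.transpose_one]

theorem conjT_conjT {n : Type*} {σ : K →+* K} (hσ : ∀ x, σ (σ x) = x) (M : Matrix n n K) :
    conjT σ (conjT σ M) = M := by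
  ext i j
  simp [conjT, hσ]

/-- Hermitian matrices. -/
def hermMap (X : QuadExt F K a b) :
    ((Fin 1 ⊕ Fin 1) ⊕ Fin 2 → F) →ₛₗ[X.ψ] Matrix (Fin 2) (Fin 2) K where
  toFun v := !![X.ψ (v (.inl (.inl 0))), X.ψ (v (.inr 0)) + X.θ * X.ψ (v (.inr 1));
    X.ψ (v (.inr 0)) + X.σ X.θ * X.ψ (v (.inr 1)), -X.ψ (v (.inl (.inr 0)))]
  map_add' v w := by
    ext i j
    fin_cases i <;> fin_cases j <;> simp <;> ring
  map_smul' c v := by
    ext i j
    fin_cases i <;> fin_cases j <;> simp <;> ring

/-- The action on Hermitian matrices. -/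
def hermAct (X : QuadExt F K a b) : SL(2, K) →* Module.End K (Matrix (Fin 2) (Fin 2) K) :=
  sandwich (slMat (Fin 2) K) (fun A => conjT X.σ (slMat (Fin 2) K A))
    (by simp [conjT_one]) (fun g h => by simp [conjT_mul])

theorem hermAct_apply (X : QuadExt F K a b) (A : SL(2, K)) (M : Matrix (Fin 2) (Fin 2) K) :
    hermAct X A M = slMat (Fin 2) K A * M * conjT X.σ (slMat (Fin 2) K A) := rfl

theorem conjT_hermMap (X : QuadExt F K a b) (v : (Fin 1 ⊕ Fin 1) ⊕ Fin 2 → F) :
    conjT X.σ (hermMap X v) = hermMap X v := by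
  ext i j
  fin_cases i <;> fin_cases j <;> simp [conjT, hermMap, X.σ_ψ, X.invol]

theorem exists_hermMap (X : QuadExt F K a b) {N : Matrix (Fin 2) (Fin 2) K}
    (hN : conjT X.σ N = N) : ∃ v, hermMap X v = N := by
  have h00 : X.σ (N 0 0) = N 0 0 := congrFun (congrFun hN 0) 0
  have h11 : X.σ (-N 1 1) = -N 1 1 := by
    rw [map_neg, show X.σ (N 1 1) = N 1 1 from congrFun (congrFun hN 1) 1]
  have h10 : X.σ (N 0 1) = N 1 0 := congrFun (congrFun hN 1) 0
  obtain ⟨x, hx⟩ := (X.fixed _).1 h00
  obtain ⟨y, hy⟩ := (X.fixed _).1 h11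
  obtain ⟨z₀, z₁, hz⟩ := X.exists_coord (N 0 1)
  refine ⟨Sum.elim (Sum.elim (fun _ => x) (fun _ => y)) ![z₀, z₁], ?_⟩
  ext i j
  fin_cases i <;> fin_cases j
  · simp [hermMap, hx]
  · simp [hermMap, hz]
  · simp [hermMap, ← h10, hz, X.σ_ψ]
  · simp [hermMap, hy]

/-- The Hermitian model of `PΩ⁻₄`. -/
def hermModel (X : QuadExt F K a b) :
    Model (qMinus 1 F a b) SL(2, K) (Matrix (Fin 2) (Fin 2) K) X.ψ where
  E := hermMap X
  T := hermAct X
  Φ M := -M.det
  inj v w h := by
    have h00 := congrFun (congrFun h 0) 0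
    have h01 := congrFun (congrFun h 0) 1
    have h11 := congrFun (congrFun h 1) 1
    simp [hermMap] at h00 h01 h11
    obtain ⟨e0, e1⟩ := X.coord_unique h01
    funext x
    rcases x with (i | i) | i
    · rw [Subsingleton.elim i 0]; exact X.ψ.injective h00
    · rw [Subsingleton.elim i 0]; exact X.ψ.injective h11
    · fin_cases i <;> assumption
  mem A v := exists_hermMap X (by
    rw [hermAct_apply, conjT_mul, conjT_mul, conjT_conjT X.invol, conjT_hermMap, Matrix.mul_assoc])
  eval v := by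
    simp [hermMap, Matrix.det_fin_two, coe_qMinus, Cfsg.quadFormMinus, ← X.trace_θ, ← X.norm_θ]
    ring
  invariant A v := by
    simp [hermAct_apply, slMat_apply, Matrix.det_mul, conjT, ← RingHom.mapMatrix_apply,
      ← RingHom.map_det]

theorem nonempty_pomega_four_minus [Fintype F] [Fintype K] {q : ℕ} (hF : Fintype.card F = q)
    (hK : Fintype.card K = q ^ 2) {a b : F}
    (hab : ∀ z₁ z₂ : F, z₁ ^ 2 + a * z₁ * z₂ + b * z₂ ^ 2 = 0 → z₁ = 0 ∧ z₂ = 0) :
    Nonempty (Cfsg.POmega F (Cfsg.quadFormMinus 1 F a b) ≃*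
      ProjectiveSpecialLinearGroup (Fin 2) K) := by
  classical
  have hq2 : 2 ≤ q := hF ▸ Fintype.one_lt_card
  obtain ⟨X, -⟩ := exists_quadExt hF hK hab
  set M := hermModel X with hM
  have hperf : commutator SL(2, K) = ⊤ := commutator_SL_two_eq_top (by rw [hK]; nlinarith)
  have hgrun := fun g => mem_center_of_commutator_central_of_perfect (H := SL(2, K)) hperf (g := g)
  have hkey : ∀ A ∈ M.hom.ker, (A : Matrix (Fin 2) (Fin 2) K) =
      Matrix.scalar (Fin 2) ((A : Matrix (Fin 2) (Fin 2) K) 0 0) ∧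
      ((A : Matrix (Fin 2) (Fin 2) K) 0 0) ^ 2 = 1 := by
    intro A hA
    rw [Model.mem_ker_iff] at hA
    have hone : hermMap X (Sum.elim (Sum.elim 1 (-1)) 0) = 1 := by
      ext i j
      fin_cases i <;> fin_cases j <;> simp [hermMap]
    have h1 : slMat (Fin 2) K A * conjT X.σ (slMat (Fin 2) K A) = 1 := by
      have h := hA (Sum.elim (Sum.elim 1 (-1)) 0)
      rw [show M.E = hermMap X from rfl, hone] at h
      rwa [show M.T = hermAct X from rfl, hermAct_apply, Matrix.mul_one] at h
    have h2 : conjT X.σ (slMat (Fin 2) K A) * slMat (Fin 2) K A = 1 := mul_eq_one_comm.1 h1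
    have hc : ∀ v, slMat (Fin 2) K A * hermMap X v = hermMap X v * slMat (Fin 2) K A := fun v => by
      have h : slMat (Fin 2) K A * hermMap X v * conjT X.σ (slMat (Fin 2) K A) = hermMap X v := hA v
      conv_rhs => rw [← h]
      rw [Matrix.mul_assoc _ (conjT X.σ (slMat (Fin 2) K A)), h2, Matrix.mul_one]
    have ha := hc (Sum.elim (Sum.elim 1 0) 0)
    have hb := hc (Sum.elim 0 ![1, 0])
    have a01 := congrFun (congrFun ha 0) 1
    have a10 := congrFun (congrFun ha 1) 0
    have b01 := congrFun (congrFun hb 0) 1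
    simp [hermMap, slMat_apply, Matrix.mul_apply, Fin.sum_univ_two] at a01 a10 b01
    have hd : (A : Matrix (Fin 2) (Fin 2) K).det = 1 := A.det_coe
    rw [Matrix.det_fin_two] at hd
    constructor
    · ext i j
      fin_cases i <;> fin_cases j <;> simp [← b01, a01, a10]
    · rw [← b01, a10] at hd
      linear_combination hd
  have hker : M.hom.ker ≤ Subgroup.center SL(2, K) := fun A hA =>
    Matrix.SpecialLinearGroup.mem_center_iff.2
      ⟨_, by rw [Fintype.card_fin]; exact (hkey A hA).2, (hkey A hA).1.symm⟩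
  have hkc : Nat.card M.hom.ker ≤ Nat.card {c : F // c ^ 2 = 1} := by
    have hroot : ∀ c : K, c ^ 2 = 1 → ∃ d : F, d ^ 2 = 1 ∧ X.ψ d = c := fun c hc => by
      rcases sq_eq_one_iff.1 hc with rfl | rfl
      · exact ⟨1, one_pow 2, map_one _⟩
      · exact ⟨-1, neg_one_sq, by rw [map_neg, map_one]⟩
    choose r hr1 hr2 using hroot
    refine Nat.card_le_card_of_injective
      (fun A => ⟨r _ (hkey A.1 A.2).2, hr1 _ (hkey A.1 A.2).2⟩) fun A B h => ?_
    refine Subtype.ext (Subtype.ext ?_)
    have h' := congrArg (fun c : {c : F // c ^ 2 = 1} => X.ψ c.1) h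
    simp only [hr2] at h'
    rw [(hkey A.1 A.2).1, (hkey B.1 B.2).1]
    exact congrArg _ h'
  rw [← coe_qMinus 1 F a b]
  rcases eq_or_lt_of_le hq2 with h2 | h3
  · subst h2
    obtain ⟨e⟩ := exists_zmod_equiv F (p := 2) hF
    have hval : ∀ x : F, x = 0 ∨ x = 1 := fun x => by
      obtain ⟨y, rfl⟩ := e.surjective x
      rcases (show y = 0 ∨ y = 1 by revert y; decide) with rfl | rfl
      · exact Or.inl (map_zero e)
      · exact Or.inr (map_one e)
    have h20 : (2 : F) = 0 := by
      rw [← map_ofNat e 2, show (2 : ZMod 2) = 0 from rfl, map_zero]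
    have ha1 : a = 1 := (hval a).resolve_left fun h => by
      rcases hval b with hb | hb
      · exact one_ne_zero (hab 0 1 (by rw [hb]; ring)).2
      · exact one_ne_zero (hab 1 1 (by rw [h, hb]; linear_combination h20)).2
    have hb1 : b = 1 := (hval b).resolve_left fun h => one_ne_zero (hab 0 1 (by rw [h]; ring)).2
    subst ha1 hb1
    obtain ⟨f⟩ := isometryGroup_minus_four_two hF
    have hOm : Nat.card (Cfsg.Omega F (⇑(qMinus 1 F (1 : F) 1))) = 60 := by
      rw [coe_qMinus]
      have hmap : (commutator _).map f.toMonoidHom = commutator (Equiv.Perm (Fin 5)) := by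
        rw [commutator_def, commutator_def, Subgroup.map_commutator,
          Subgroup.map_top_of_surjective _ f.surjective]
      rw [← Subgroup.card_map_of_injective (f := f.toMonoidHom) f.injective, hmap,
        alternatingGroup.commutator_perm_eq (by simp), nat_card_alternatingGroup]
      simp [Nat.factorial]
    refine nonempty_pomega_equiv M.hom ?_ ?_ hker hgrun
    · rw [MonoidHom.range_eq_map, ← hperf, commutator_def, Subgroup.map_commutator]
      exact Subgroup.commutator_mono le_top le_top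
    · have hk1 : Nat.card M.hom.ker ≤ 1 := hkc.trans (le_of_eq (by
        rw [← card_sqClass_mul_card_sqrt_one, card_sqClass_of_two_eq_zero h20]))
      rw [hOm, card_SL_two, hK]
      omega
  · exact nonempty_pomega_equiv_of_fourGen (qMinus_nondeg hab 1) (hex_of_card (Or.inl (by omega)))
      (by simp) M.hom (fourGen_of_perfect hperf) hker hkc
      (by
        rw [card_OQ_qMinus hF 1 hab, card_SL_two, hK]
        simp [Finset.prod_range_succ]
        have h4 : (q ^ 2) ^ 2 - 1 = (q ^ 2 + 1) * (q ^ 2 - 1) := by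
          simpa using Nat.sq_sub_sq (q ^ 2) 1
        rw [h4]
        exact le_of_eq (by ring))
      hgrun

end CfsgLib.Classical.SmallOrtho
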