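import Cfsg.Agent.Lib.Classical.SmallOrtho.Basic
import Cfsg.Agent.Lib.Classical.PSLTwoSimple
import Cfsg.Agent.Lib.Classical.SL2Sylow
import Cfsg.Agent.Lib.Classical.Quad.NegOne

/-!
`PΩ₃(q)` and `PΩ⁺₄(q)`.
-/

set_option autoImplicit false

namespace CfsgLib.Classical.SmallOrtho

open QuadraticMap CfsgLib.Classical.Quad CfsgLib.Classical.Two Matrix
open scoped MatrixGroups commutatorElement

/-- The action `M ↦ L h * M * R h`. -/
def sandwich {n : Type*} [Fintype n] [DecidableEq n] {K : Type*} [CommRing K] {H : Type*}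
    [Group H] (L : H →* Matrix n n K) (R : H → Matrix n n K) (h1 : R 1 = 1)
    (hmul : ∀ g h, R (g * h) = R h * R g) : H →* Module.End K (Matrix n n K) where
  toFun h :=
    { toFun := fun M => L h * M * R h
      map_add' := fun M N => by simp [Matrix.mul_add, Matrix.add_mul]
      map_smul' := fun c M => by simp }
  map_one' := LinearMap.ext fun M => by simp [h1]
  map_mul' g h := LinearMap.ext fun M => by
    show L (g * h) * M * R (g * h) = L g * (L h * M * R h) * R g
    rw [map_mul, hmul]
    simp only [Matrix.mul_assoc]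

theorem sandwich_apply {n : Type*} [Fintype n] [DecidableEq n] {K : Type*} [CommRing K]
    {H : Type*} [Group H] (L : H →* Matrix n n K) (R : H → Matrix n n K) (h1 : R 1 = 1)
    (hmul : ∀ g h, R (g * h) = R h * R g) (h : H) (M : Matrix n n K) :
    sandwich L R h1 hmul h M = L h * M * R h := rfl

/-- The matrices of `SL`. -/
def slMat (n : Type*) [Fintype n] [DecidableEq n] (K : Type*) [CommRing K] :
    SpecialLinearGroup n K →* Matrix n n K where
  toFun A := (A : Matrix n n K)
  map_one' := rfl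
  map_mul' _ _ := rfl

theorem slMat_apply {n : Type*} [Fintype n] [DecidableEq n] {K : Type*} [CommRing K]
    (A : SpecialLinearGroup n K) : slMat n K A = (A : Matrix n n K) := rfl

theorem pow_four_center_SL {n : ℕ} {K : Type*} [Field K] (hn : n ∣ 4)
    (z : SpecialLinearGroup (Fin n) K) (hz : z ∈ Subgroup.center _) : z ^ 4 = 1 := by
  obtain ⟨r, hr, hrz⟩ := Matrix.SpecialLinearGroup.mem_center_iff.1 hz
  obtain ⟨k, hk⟩ := hn
  apply Subtype.ext
  show (slMat (Fin n) K) (z ^ 4) = 1
  rw [map_pow, slMat_apply, ← hrz, ← map_pow, hk, pow_mul]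
  rw [Fintype.card_fin] at hr
  rw [hr, one_pow, map_one]

variable {F : Type*} [Field F]

theorem fourGen_SL_two [Fintype F] (hF : 3 ≤ Fintype.card F) : FourGen SL(2, F) := by
  by_cases h2 : (2 : F) = 0
  · refine fourGen_of_perfect (commutator_SL_two_eq_top ?_)
    by_contra h
    have h3 : Fintype.card F = 3 := by omega
    obtain ⟨p, hp⟩ := CharP.exists F
    obtain ⟨n, hpr, hn⟩ := FiniteField.card F p
    have hp2 : p = 2 := ((Nat.prime_dvd_prime_iff_eq hpr Nat.prime_two).1
      ((CharP.cast_eq_zero_iff F p 2).1 (by exact_mod_cast h2)))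
    have : 2 ∣ Fintype.card F := by
      rw [hn, hp2]; exact dvd_pow_self 2 n.pos.ne'
    omega
  · refine closure_transvection_eq_top _ fun i j hij c =>
      Subgroup.mem_sup_left (Subgroup.subset_closure
        ⟨SpecialLinearGroup.transvection hij (c / 4), ?_⟩)
    have h4 : (4 : F) ≠ 0 := by
      intro h
      apply h2
      have h' : (2 : F) * 2 = 0 := by linear_combination h
      exact mul_self_eq_zero.1 h'
    have key : ∀ b : F, SpecialLinearGroup.transvection hij b * SpecialLinearGroup.transvection hij b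
        = SpecialLinearGroup.transvection hij (b + b) := fun b =>
      (SpecialLinearGroup.transvection_add hij b b).symm
    show _ ^ 4 = _
    rw [show (4 : ℕ) = 2 * 2 from rfl, pow_mul, pow_two, pow_two, key, key]
    congr 1
    field_simp
    ring

/-- Trace zero matrices. -/
def tzMap (F : Type*) [Field F] :
    (Unit ⊕ (Fin 1 ⊕ Fin 1) → F) →ₗ[F] Matrix (Fin 2) (Fin 2) F where
  toFun v := !![v (.inl ()), v (.inr (.inl 0)); v (.inr (.inr 0)), -v (.inl ())]
  map_add' v w := by
    ext i j
    fin_cases i <;> fin_cases j <;> simp [add_comm]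
  map_smul' c v := by
    ext i j
    fin_cases i <;> fin_cases j <;> simp

/-- The adjoint model of `PΩ₃`. -/
def adjointModel (F : Type*) [Field F] :
    Model (qOdd 1 F) SL(2, F) (Matrix (Fin 2) (Fin 2) F) (RingHom.id F) where
  E := tzMap F
  T := sandwich (slMat (Fin 2) F) (fun A => ((A⁻¹ : SL(2, F)) : Matrix (Fin 2) (Fin 2) F))
    (by simp) (fun g h => by simp [_root_.mul_inv_rev])
  Φ M := -M.det
  inj v w h := by
    have h00 := congrFun (congrFun h 0) 0
    have h01 := congrFun (congrFun h 0) 1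
    have h10 := congrFun (congrFun h 1) 0
    simp [tzMap] at h00 h01 h10
    funext x
    rcases x with ⟨⟩ | i | i
    · exact h00
    · rw [Subsingleton.elim i 0]; exact h01
    · rw [Subsingleton.elim i 0]; exact h10
  mem A v := by
    set N := sandwich (slMat (Fin 2) F) (fun A => ((A⁻¹ : SL(2, F)) : Matrix (Fin 2) (Fin 2) F))
      (by simp) (fun g h => by simp [_root_.mul_inv_rev]) A (tzMap F v) with hN
    refine ⟨Sum.elim (fun _ => N 0 0) (Sum.elim (fun _ => N 0 1) (fun _ => N 1 0)), ?_⟩
    have key : N 1 1 = -N 0 0 := by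
      simp [hN, sandwich_apply, slMat_apply, tzMap, Matrix.mul_apply, Fin.sum_univ_two,
        SpecialLinearGroup.coe_inv, Matrix.adjugate_fin_two]
      ring
    ext i j
    fin_cases i <;> fin_cases j <;> simp [tzMap, key]
  eval v := by
    simp [tzMap, Matrix.det_fin_two, coe_qOdd, Cfsg.quadFormOdd]
    ring
  invariant A v := by
    simp [sandwich_apply, slMat_apply, Matrix.det_mul, Matrix.det_adjugate]

theorem nonempty_pomega_three [Fintype F] (hodd : Odd (Fintype.card F)) :
    Nonempty (Cfsg.POmega F (Cfsg.quadFormOdd 1 F) ≃* ProjectiveSpecialLinearGroup (Fin 2) F) := by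
  classical
  have h2 := two_ne_zero_of_odd (F := F) rfl hodd
  have hq : 3 ≤ Fintype.card F := by
    have := Fintype.one_lt_card (α := F)
    obtain ⟨k, hk⟩ := hodd
    omega
  set M := adjointModel F with hM
  have hkey : ∀ A ∈ M.hom.ker, (A : Matrix (Fin 2) (Fin 2) F) =
      Matrix.scalar (Fin 2) ((A : Matrix (Fin 2) (Fin 2) F) 0 0) ∧
      ((A : Matrix (Fin 2) (Fin 2) F) 0 0) ^ 2 = 1 := by
    intro A hA
    rw [Model.mem_ker_iff] at hA
    have hc : ∀ v, (A : Matrix (Fin 2) (Fin 2) F) * tzMap F v =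
        tzMap F v * (A : Matrix (Fin 2) (Fin 2) F) := fun v => by
      have h : (A : Matrix (Fin 2) (Fin 2) F) * tzMap F v *
          ((A⁻¹ : SL(2, F)) : Matrix (Fin 2) (Fin 2) F) = tzMap F v := hA v
      conv_rhs => rw [← h]
      simp only [Matrix.mul_assoc, ← slMat_apply, ← map_mul, inv_mul_cancel, map_one,
        Matrix.mul_one]
    have ha := hc (Sum.elim 0 (Sum.elim 1 0))
    have hb := hc (Sum.elim 0 (Sum.elim 0 1))
    have a00 := congrFun (congrFun ha 0) 0
    have a01 := congrFun (congrFun ha 0) 1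
    have b00 := congrFun (congrFun hb 0) 0
    simp [tzMap, Matrix.mul_apply, Fin.sum_univ_two] at a00 a01 b00
    have hd : (A : Matrix (Fin 2) (Fin 2) F).det = 1 := A.det_coe
    rw [Matrix.det_fin_two] at hd
    constructor
    · ext i j
      fin_cases i <;> fin_cases j <;> simp [← a00, b00, a01]
    · rw [← a00, b00] at hd
      linear_combination hd + (A : Matrix (Fin 2) (Fin 2) F) 0 0 * a01
  have hker : M.hom.ker ≤ Subgroup.center SL(2, F) := fun A hA =>
    Matrix.SpecialLinearGroup.mem_center_iff.2 ⟨_, by rw [Fintype.card_fin]; exact (hkey A hA).2, (hkey A hA).1.symm⟩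
  have hkc : Nat.card M.hom.ker ≤ Nat.card {c : F // c ^ 2 = 1} := by
    refine Nat.card_le_card_of_injective (fun A => ⟨_, (hkey A.1 A.2).2⟩) fun A B h => ?_
    refine Subtype.ext (Subtype.ext ?_)
    rw [(hkey A.1 A.2).1, (hkey B.1 B.2).1]
    exact congrArg _ (congrArg Subtype.val h)
  have h := nonempty_pomega_equiv_of_fourGen (qOdd_nondeg h2 1) (hex_of_two_ne_zero h2) (by simp)
    M.hom (fourGen_SL_two hq) hker hkc
    (by rw [card_OQ_qOdd rfl h2, card_SL_two]; simp [Finset.prod_range_succ]; linarith)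
    (fun g => mem_center_of_commutator_central (fourGen_SL_two hq)
      (pow_four_center_SL (by norm_num)))
  rw [coe_qOdd] at h
  exact h

/-- All `2 × 2` matrices. -/
def planeMap (F : Type*) [Field F] : (Fin 2 ⊕ Fin 2 → F) →ₗ[F] Matrix (Fin 2) (Fin 2) F where
  toFun v := !![v (.inl 0), v (.inl 1); -v (.inr 1), v (.inr 0)]
  map_add' v w := by
    ext i j
    fin_cases i <;> fin_cases j <;> simp [add_comm]
  map_smul' c v := by
    ext i j
    fin_cases i <;> fin_cases j <;> simp

/-- The two-sided model of `PΩ⁺₄`. -/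
def twoSidedModel (F : Type*) [Field F] :
    Model (qPlus 2 F) (SL(2, F) × SL(2, F)) (Matrix (Fin 2) (Fin 2) F) (RingHom.id F) where
  E := planeMap F
  T := sandwich ((slMat (Fin 2) F).comp (MonoidHom.fst _ _))
    (fun A => ((A.2⁻¹ : SL(2, F)) : Matrix (Fin 2) (Fin 2) F))
    (by simp) (fun g h => by simp [_root_.mul_inv_rev])
  Φ M := M.det
  inj v w h := by
    have h00 := congrFun (congrFun h 0) 0
    have h01 := congrFun (congrFun h 0) 1
    have h10 := congrFun (congrFun h 1) 0
    have h11 := congrFun (congrFun h 1) 1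
    simp [planeMap] at h00 h01 h10 h11
    funext x
    rcases x with i | i <;> fin_cases i <;> assumption
  mem A v := by
    set N := sandwich ((slMat (Fin 2) F).comp (MonoidHom.fst _ _))
      (fun A : SL(2, F) × SL(2, F) => ((A.2⁻¹ : SL(2, F)) : Matrix (Fin 2) (Fin 2) F))
      (by simp) (fun g h => by simp [_root_.mul_inv_rev]) A (planeMap F v) with hN
    refine ⟨Sum.elim ![N 0 0, N 0 1] ![N 1 1, -N 1 0], ?_⟩
    ext i j
    fin_cases i <;> fin_cases j <;> simp [planeMap]
  eval v := by
    simp [planeMap, Matrix.det_fin_two, coe_qPlus, Cfsg.quadFormPlus, Fin.sum_univ_two]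
  invariant A v := by
    simp [sandwich_apply, slMat_apply, Matrix.det_mul, Matrix.det_adjugate]

/-- `PSL₂ × PSL₂` as a quotient by the centre. -/
theorem nonempty_prod_quotient_center {G K : Type*} [Group G] [Group K] :
    Nonempty ((G × K) ⧸ Subgroup.center (G × K) ≃*
      (G ⧸ Subgroup.center G) × (K ⧸ Subgroup.center K)) := by
  let f := MonoidHom.prodMap (QuotientGroup.mk' (Subgroup.center G))
    (QuotientGroup.mk' (Subgroup.center K))
  have hk : f.ker = Subgroup.center (G × K) := by
    ext ⟨x, y⟩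
    simp only [f, MonoidHom.mem_ker, MonoidHom.prodMap, MonoidHom.prod_apply, MonoidHom.comp_apply,
      Prod.mk_eq_one, MonoidHom.coe_fst, MonoidHom.coe_snd, QuotientGroup.mk'_apply,
      QuotientGroup.eq_one_iff, Subgroup.mem_center_iff, Prod.forall, Prod.mk_mul_mk, Prod.mk.injEq]
    exact ⟨fun h a b => ⟨h.1 a, h.2 b⟩, fun h => ⟨fun a => (h a 1).1, fun b => (h 1 b).2⟩⟩
  exact ⟨(QuotientGroup.quotientMulEquivOfEq hk).symm.trans
    (QuotientGroup.quotientKerEquivOfSurjective f
      ((QuotientGroup.mk'_surjective _).prodMap (QuotientGroup.mk'_surjective _)))⟩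

theorem nonempty_pomega_four_plus [Fintype F] (hF : 3 ≤ Fintype.card F) :
    Nonempty (Cfsg.POmega F (Cfsg.quadFormPlus 2 F) ≃*
      ProjectiveSpecialLinearGroup (Fin 2) F × ProjectiveSpecialLinearGroup (Fin 2) F) := by
  classical
  set M := twoSidedModel F with hM
  have hkey : ∀ A ∈ M.hom.ker, A.1 = A.2 ∧ (A.1 : Matrix (Fin 2) (Fin 2) F) =
      Matrix.scalar (Fin 2) ((A.1 : Matrix (Fin 2) (Fin 2) F) 0 0) ∧
      ((A.1 : Matrix (Fin 2) (Fin 2) F) 0 0) ^ 2 = 1 := by
    intro A hA
    rw [Model.mem_ker_iff] at hA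
    have hc : ∀ v, (A.1 : Matrix (Fin 2) (Fin 2) F) * planeMap F v =
        planeMap F v * (A.2 : Matrix (Fin 2) (Fin 2) F) := fun v => by
      have h : (A.1 : Matrix (Fin 2) (Fin 2) F) * planeMap F v *
          ((A.2⁻¹ : SL(2, F)) : Matrix (Fin 2) (Fin 2) F) = planeMap F v := hA v
      conv_rhs => rw [← h]
      simp only [Matrix.mul_assoc, ← slMat_apply, ← map_mul, inv_mul_cancel, map_one,
        Matrix.mul_one]
    have h1 := hc (Sum.elim ![1, 0] ![1, 0])
    have he : planeMap F (Sum.elim ![1, 0] ![1, 0]) = 1 := by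
      ext i j
      fin_cases i <;> fin_cases j <;> simp [planeMap]
    rw [he, Matrix.mul_one, Matrix.one_mul] at h1
    have h12 : A.1 = A.2 := Subtype.ext h1
    have ha := hc (Sum.elim ![0, 1] 0)
    have hb := hc (Sum.elim 0 ![0, -1])
    rw [← h12] at ha hb
    have a00 := congrFun (congrFun ha 0) 0
    have a01 := congrFun (congrFun ha 0) 1
    have b00 := congrFun (congrFun hb 0) 0
    simp [planeMap, Matrix.mul_apply, Fin.sum_univ_two] at a00 a01 b00
    have hd : (A.1 : Matrix (Fin 2) (Fin 2) F).det = 1 := A.1.det_coe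
    rw [Matrix.det_fin_two] at hd
    refine ⟨h12, ?_, ?_⟩
    · ext i j
      fin_cases i <;> fin_cases j <;> simp [← a00, b00, a01]
    · rw [← a00, b00] at hd
      linear_combination hd + (A.1 : Matrix (Fin 2) (Fin 2) F) 0 0 * a01
  have hker : M.hom.ker ≤ Subgroup.center (SL(2, F) × SL(2, F)) := fun A hA => by
    obtain ⟨h12, hs, hsq⟩ := hkey A hA
    have hc : A.1 ∈ Subgroup.center SL(2, F) :=
      Matrix.SpecialLinearGroup.mem_center_iff.2 ⟨_, by rw [Fintype.card_fin]; exact hsq, hs.symm⟩
    rw [Subgroup.mem_center_iff] at hc ⊢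
    exact fun g => Prod.ext (hc g.1) (show g.2 * A.2 = A.2 * g.2 by rw [← h12]; exact hc g.2)
  have hkc : Nat.card M.hom.ker ≤ Nat.card {c : F // c ^ 2 = 1} := by
    refine Nat.card_le_card_of_injective (fun A => ⟨_, (hkey A.1 A.2).2.2⟩) fun A B h => ?_
    have h1 : A.1.1 = B.1.1 := by
      apply Subtype.ext
      rw [(hkey A.1 A.2).2.1, (hkey B.1 B.2).2.1]
      exact congrArg _ (congrArg Subtype.val h)
    exact Subtype.ext (Prod.ext h1 (by rw [← (hkey A.1 A.2).1, ← (hkey B.1 B.2).1, h1]))
  have hgen := (fourGen_SL_two hF).prod (fourGen_SL_two hF)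
  have h := nonempty_pomega_equiv_of_fourGen (qPlus_nondeg 2) (hex_of_card (Or.inl (by omega)))
    (by simp) M.hom hgen hker hkc
    (by
      rw [card_OQ_qPlus rfl 1, Nat.card_prod, card_SL_two]
      simp [Finset.prod_range_succ]
      exact le_of_eq (by ring))
    (fun g => mem_center_of_commutator_central hgen fun z hz => by
      rw [Subgroup.mem_center_iff] at hz
      refine Prod.ext (pow_four_center_SL (by norm_num) z.1 ?_) (pow_four_center_SL (by norm_num) z.2 ?_)
      · exact Subgroup.mem_center_iff.2 fun x => (Prod.ext_iff.1 (hz (x, 1))).1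
      · exact Subgroup.mem_center_iff.2 fun x => (Prod.ext_iff.1 (hz (1, x))).2)
  rw [coe_qPlus] at h
  exact ⟨h.some.trans nonempty_prod_quotient_center.some⟩

end CfsgLib.Classical.SmallOrtho
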