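import Cfsg.Agent.Lib.Classical.SmallOrtho.Alt
import Cfsg.Agent.Lib.Classical.Symplectic.MatrixStructure
import Cfsg.Agent.Lib.Classical.Quad.NegOne

/-!
`PΩ₅(q) ≅ PSp₄(q)`.
-/

set_option autoImplicit false

namespace CfsgLib.Classical.SmallOrtho

open QuadraticMap CfsgLib.Classical.Quad Matrix
open scoped MatrixGroups commutatorElement

variable (F : Type*) [Field F]

/-- The symplectic group as `4 × 4` matrices. -/
def spMat : Matrix.symplecticGroup (Fin 2) F →* Matrix (Fin 4) (Fin 4) F :=
  ((Matrix.reindexAlgEquiv F F (finSumFinEquiv (m := 2) (n := 2))).toAlgHom.toMonoidHom).comp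
    (Matrix.symplecticGroup (Fin 2) F).subtype

/-- The symplectic form as an alternating matrix. -/
def jFour : Matrix (Fin 4) (Fin 4) F := altMat 0 (-1) 0 0 (-1) 0

theorem spMat_injective : Function.Injective (spMat F) := fun _ _ h =>
  Subtype.ext ((Matrix.reindexAlgEquiv F F (finSumFinEquiv (m := 2) (n := 2))).injective h)

theorem spMat_congr (A : Matrix.symplecticGroup (Fin 2) F) :
    spMat F A * jFour F * (spMat F A)ᵀ = jFour F := by
  have hJ : jFour F = Matrix.reindexAlgEquiv F F (finSumFinEquiv (m := 2) (n := 2))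
      (Matrix.J (Fin 2) F) := by
    ext i j
    fin_cases i <;> fin_cases j <;>
      simp [jFour, altMat, Matrix.J, Matrix.reindexAlgEquiv_apply, finSumFinEquiv,
        Fin.addCases, Matrix.fromBlocks, Matrix.one_apply]
  rw [hJ]
  show Matrix.reindexAlgEquiv F F finSumFinEquiv (A : Matrix (Fin 2 ⊕ Fin 2) (Fin 2 ⊕ Fin 2) F) *
      _ * (Matrix.reindexAlgEquiv F F finSumFinEquiv
        (A : Matrix (Fin 2 ⊕ Fin 2) (Fin 2 ⊕ Fin 2) F))ᵀ = _
  simp only [Matrix.reindexAlgEquiv_apply, Matrix.reindex_apply, Matrix.transpose_submatrix,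
    Matrix.submatrix_mul_equiv, SymplecticGroup.mem_iff.1 A.2]

theorem spMat_det (A : Matrix.symplecticGroup (Fin 2) F) : (spMat F A).det = 1 := by
  have h := pf_congr (spMat F A) (0 : F) (-1) 0 0 (-1) 0
  rw [show altMat (0 : F) (-1) 0 0 (-1) 0 = jFour F from rfl, spMat_congr] at h
  simp [jFour, pf_altMat] at h
  exact h.symm

/-- The orthogonal complement of the symplectic form. -/
def oddMap : (Unit ⊕ (Fin 2 ⊕ Fin 2) → F) →ₗ[F] Matrix (Fin 4) (Fin 4) F where
  toFun v := altMat (v (.inr (.inl 0))) (v (.inl ())) (v (.inr (.inl 1))) (v (.inr (.inr 1)))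
    (-v (.inl ())) (v (.inr (.inr 0)))
  map_add' v w := by
    rw [← altMat_add]
    simp [add_comm]
  map_smul' c v := by
    rw [RingHom.id_apply, ← altMat_smul]
    simp

/-- The five-dimensional model. -/
def sympModel : Model (qOdd 2 F) (Matrix.symplecticGroup (Fin 2) F) (Matrix (Fin 4) (Fin 4) F)
    (RingHom.id F) where
  E := oddMap F
  T := congrAct (spMat F)
  Φ := pf
  inj v w h := by
    have h01 := congrFun (congrFun h 0) 1
    have h02 := congrFun (congrFun h 0) 2
    have h03 := congrFun (congrFun h 0) 3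
    have h12 := congrFun (congrFun h 1) 2
    have h23 := congrFun (congrFun h 2) 3
    simp [oddMap, altMat] at h01 h02 h03 h12 h23
    funext x
    rcases x with ⟨⟩ | i | i
    · exact h02
    · fin_cases i <;> assumption
    · fin_cases i <;> assumption
  mem A v := by
    set N := congrAct (spMat F) A (oddMap F v) with hN
    have hperp : N 0 2 + N 1 3 = 0 := by
      have h1 : altOf N = N := altOf_congr _ _ _ _ _ _ _
      have hsum : pf (congrAct (spMat F) A (oddMap F v + jFour F)) =
          pf (oddMap F v + jFour F) := by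
        simp only [oddMap, jFour, LinearMap.coe_mk, AddHom.coe_mk, ← altMat_add, congrAct_apply,
          pf_congr, pf_altMat, spMat_det, one_mul]
      have hN0 : pf N = pf (oddMap F v) := by
        simp only [hN, oddMap, LinearMap.coe_mk, AddHom.coe_mk, congrAct_apply, pf_congr,
          pf_altMat, spMat_det, one_mul]
      rw [map_add, congrAct_apply _ _ (jFour F), spMat_congr, ← hN] at hsum
      simp [pf, jFour, oddMap, altMat, Matrix.add_apply] at hsum hN0
      linear_combination hsum - hN0
    refine ⟨Sum.elim (fun _ => N 0 2) (Sum.elim ![N 0 1, N 0 3] ![N 2 3, N 1 2]), ?_⟩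
    have h13 : N 1 3 = -N 0 2 := by linear_combination hperp
    calc oddMap F (Sum.elim (fun _ => N 0 2) (Sum.elim ![N 0 1, N 0 3] ![N 2 3, N 1 2]))
        = altOf N := by simp [oddMap, altOf, h13]
      _ = N := altOf_congr _ _ _ _ _ _ _
  eval v := by
    simp [oddMap, pf_altMat, coe_qOdd, Cfsg.quadFormOdd, Fin.sum_univ_two]
    ring
  invariant A v := by
    show pf (spMat F A * oddMap F v * (spMat F A)ᵀ) = pf (oddMap F v)
    simp only [oddMap, LinearMap.coe_mk, AddHom.coe_mk, pf_congr, pf_altMat, spMat_det, one_mul]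

theorem nonempty_pomega_five [Fintype F] (hodd : Odd (Fintype.card F)) :
    Nonempty (Cfsg.POmega F (Cfsg.quadFormOdd 2 F) ≃* Cfsg.PSp 2 F) := by
  classical
  have h2 := two_ne_zero_of_odd (F := F) rfl hodd
  have hperf : commutator (Matrix.symplecticGroup (Fin 2) F) = ⊤ :=
    Symp.commutator_symplecticGroup_eq_top (Or.inl ⟨le_rfl, h2⟩)
  set M := sympModel F
  have hkey : ∀ A ∈ M.hom.ker, spMat F A = Matrix.scalar (Fin 4) (spMat F A 0 0) ∧
      spMat F A 0 0 ^ 2 = 1 := by
    intro A hA
    rw [Model.mem_ker_iff] at hA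
    refine eq_scalar_of_fix _ fun p01 p02 p03 p12 p13 p23 => ?_
    set c := -(p02 + p13) / 2 with hc
    have h0 := hA (Sum.elim (fun _ => p02 + c) (Sum.elim ![p01, p03] ![p23, p12]))
    have hsplit : altMat p01 p02 p03 p12 p13 p23 =
        oddMap F (Sum.elim (fun _ => p02 + c) (Sum.elim ![p01, p03] ![p23, p12])) + c • jFour F := by
      simp only [oddMap, jFour, LinearMap.coe_mk, AddHom.coe_mk, ← altMat_smul, ← altMat_add]
      congr 1 <;> simp [hc] <;> field_simp <;> ring
    rw [hsplit, Matrix.mul_add, Matrix.add_mul, Matrix.mul_smul, Matrix.smul_mul, spMat_congr]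
    exact congrArg (· + c • jFour F) h0
  have h := nonempty_pomega_equiv_of_fourGen (qOdd_nondeg h2 2) (hex_of_two_ne_zero h2) (by simp)
    M.hom (fourGen_of_perfect hperf)
    (fun A hA => ker_le_center_of_scalar _ (spMat_injective F) (hkey A hA).1)
    (card_ker_le_sqrt _ (spMat_injective F) (RingHom.id F) _ hkey)
    (by
      rw [card_OQ_qOdd rfl h2, Symp.card_symplecticGroup]
      exact le_of_eq (by ring))
    (fun g => mem_center_of_commutator_central_of_perfect hperf)
  rw [coe_qOdd] at h
  exact h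

end CfsgLib.Classical.SmallOrtho
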