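import Cfsg.Agent.Lib.Classical.SmallOrtho.Two
import Cfsg.Agent.Lib.Classical.LinearOrder
import Cfsg.Agent.Lib.Classical.SLGroup

/-!
Alternating `4 × 4` matrices, the Pfaffian, and `PΩ⁺₆(q) ≅ PSL₄(q)`.
-/

set_option autoImplicit false

namespace CfsgLib.Classical.SmallOrtho

open QuadraticMap CfsgLib.Classical.Quad Matrix
open scoped MatrixGroups commutatorElement

variable {K : Type*} [Field K]

/-- The alternating matrix with given upper entries. -/
def altMat (p01 p02 p03 p12 p13 p23 : K) : Matrix (Fin 4) (Fin 4) K :=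
  !![0, p01, p02, p03; -p01, 0, p12, p13; -p02, -p12, 0, p23; -p03, -p13, -p23, 0]

/-- The Pfaffian. -/
def pf (M : Matrix (Fin 4) (Fin 4) K) : K := M 0 1 * M 2 3 - M 0 2 * M 1 3 + M 0 3 * M 1 2

/-- The alternating matrix with the upper entries of `M`. -/
def altOf (M : Matrix (Fin 4) (Fin 4) K) : Matrix (Fin 4) (Fin 4) K :=
  altMat (M 0 1) (M 0 2) (M 0 3) (M 1 2) (M 1 3) (M 2 3)

/-- The dual of an alternating matrix. -/
def dualM (M : Matrix (Fin 4) (Fin 4) K) : Matrix (Fin 4) (Fin 4) K :=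
  altMat (-(M 2 3)) (M 1 3) (-(M 1 2)) (-(M 0 3)) (M 0 2) (-(M 0 1))

theorem altOf_altMat (p01 p02 p03 p12 p13 p23 : K) :
    altOf (altMat p01 p02 p03 p12 p13 p23) = altMat p01 p02 p03 p12 p13 p23 := by
  simp [altOf, altMat]

theorem pf_altMat (p01 p02 p03 p12 p13 p23 : K) :
    pf (altMat p01 p02 p03 p12 p13 p23) = p01 * p23 - p02 * p13 + p03 * p12 := by
  simp [pf, altMat]

theorem altMat_add (p01 p02 p03 p12 p13 p23 q01 q02 q03 q12 q13 q23 : K) :
    altMat (p01 + q01) (p02 + q02) (p03 + q03) (p12 + q12) (p13 + q13) (p23 + q23) =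
      altMat p01 p02 p03 p12 p13 p23 + altMat q01 q02 q03 q12 q13 q23 := by
  ext i j
  fin_cases i <;> fin_cases j <;> simp [altMat, add_comm]

theorem altMat_smul (c p01 p02 p03 p12 p13 p23 : K) :
    altMat (c * p01) (c * p02) (c * p03) (c * p12) (c * p13) (c * p23) =
      c • altMat p01 p02 p03 p12 p13 p23 := by
  ext i j
  fin_cases i <;> fin_cases j <;> simp [altMat]

set_option maxHeartbeats 800000 in
theorem altOf_congr (A : Matrix (Fin 4) (Fin 4) K) (p01 p02 p03 p12 p13 p23 : K) :
    altOf (A * altMat p01 p02 p03 p12 p13 p23 * Aᵀ) =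
      A * altMat p01 p02 p03 p12 p13 p23 * Aᵀ := by
  ext i j
  fin_cases i <;> fin_cases j <;>
    simp [altOf, altMat, Matrix.mul_apply, Fin.sum_univ_four] <;> ring

set_option maxHeartbeats 1600000 in
theorem pf_congr (A : Matrix (Fin 4) (Fin 4) K) (p01 p02 p03 p12 p13 p23 : K) :
    pf (A * altMat p01 p02 p03 p12 p13 p23 * Aᵀ) =
      A.det * (p01 * p23 - p02 * p13 + p03 * p12) := by
  simp [pf, altMat, Matrix.mul_apply, Fin.sum_univ_four, Matrix.det_succ_row_zero,
    Fin.sum_univ_succ, Fin.succAbove]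
  ring

/-- The congruence action of a matrix group. -/
def congrAct {H : Type*} [Group H] (L : H →* Matrix (Fin 4) (Fin 4) K) :
    H →* Module.End K (Matrix (Fin 4) (Fin 4) K) :=
  sandwich L (fun h => (L h)ᵀ) (by simp) (fun g h => by simp [Matrix.transpose_mul])

theorem congrAct_apply {H : Type*} [Group H] (L : H →* Matrix (Fin 4) (Fin 4) K) (h : H)
    (M : Matrix (Fin 4) (Fin 4) K) : congrAct L h M = L h * M * (L h)ᵀ := rfl

theorem eq_scalar_of_fix (A : Matrix (Fin 4) (Fin 4) K)
    (h : ∀ p01 p02 p03 p12 p13 p23 : K, A * altMat p01 p02 p03 p12 p13 p23 * Aᵀ =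
      altMat p01 p02 p03 p12 p13 p23) :
    A = Matrix.scalar (Fin 4) (A 0 0) ∧ A 0 0 ^ 2 = 1 := by
  have hunit : ∀ i j : Fin 4, i < j → ∃ p01 p02 p03 p12 p13 p23 : K,
      altMat p01 p02 p03 p12 p13 p23 = Matrix.single i j 1 - Matrix.single j i 1 := by
    intro i j hij
    refine ⟨if (i, j) = (0, 1) then 1 else 0, if (i, j) = (0, 2) then 1 else 0,
      if (i, j) = (0, 3) then 1 else 0, if (i, j) = (1, 2) then 1 else 0,
      if (i, j) = (1, 3) then 1 else 0, if (i, j) = (2, 3) then 1 else 0, ?_⟩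
    ext k l
    fin_cases i <;> fin_cases j <;> first
      | exact absurd hij (by decide)
      | (fin_cases k <;> fin_cases l <;> simp [altMat, Matrix.single])
  have hm' : ∀ i j : Fin 4, i < j → ∀ k l, A k i * A l j - A k j * A l i =
      (if k = i ∧ l = j then 1 else 0) - (if k = j ∧ l = i then 1 else 0) := by
    intro i j hij k l
    obtain ⟨p01, p02, p03, p12, p13, p23, hp⟩ := hunit i j hij
    have := congrFun (congrFun (h p01 p02 p03 p12 p13 p23) k) l
    rw [hp] at this
    have e : ∀ s t : Fin 4, (A * Matrix.single s t (1 : K) * Aᵀ) k l = A k s * A l t := fun s t => by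
      simp [Matrix.mul_apply, Matrix.single_apply, ite_and, Finset.sum_ite_eq, ite_mul]
    rw [Matrix.mul_sub, Matrix.sub_mul, Matrix.sub_apply, Matrix.sub_apply, e, e] at this
    simpa [Matrix.single_apply, eq_comm, ite_and] using this
  have hm : ∀ i j k l : Fin 4, i ≠ j → A k i * A l j - A k j * A l i =
      (if k = i ∧ l = j then 1 else 0) - (if k = j ∧ l = i then 1 else 0) := by
    intro i j k l hij
    rcases lt_or_gt_of_ne hij with h | h
    · exact hm' i j h k l
    · linear_combination -(hm' j i h k l)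
  have hoff : ∀ k i : Fin 4, k ≠ i → A k i = 0 := by
    intro k i hki
    obtain ⟨j, hji, hjk⟩ : ∃ j : Fin 4, j ≠ i ∧ j ≠ k := by revert i k; decide
    have h1 := hm i j i j hji.symm
    have h2 := hm i j k j hji.symm
    have h3 := hm i j k i hji.symm
    simp [hki, hji, hji.symm, hjk.symm] at h1 h2 h3
    linear_combination -(A k i) * h1 + A i i * h2 - A j i * h3
  have hdiag : ∀ i j : Fin 4, i ≠ j → A i i * A j j = 1 := by
    intro i j hij
    have h1 := hm i j i j hij
    simpa [hij, hij.symm, hoff i j hij] using h1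
  have hall : ∀ i : Fin 4, A i i = A 0 0 := by
    intro i
    by_cases hi : i = 0
    · rw [hi]
    · obtain ⟨j, hj0, hji⟩ : ∃ j : Fin 4, j ≠ 0 ∧ j ≠ i := by revert i; decide
      have h1 := hdiag i j hji.symm
      have h2 := hdiag 0 j hj0.symm
      exact mul_right_cancel₀ (fun h0 => by rw [h0, mul_zero] at h1; exact zero_ne_one h1)
        (h1.trans h2.symm)
  refine ⟨?_, ?_⟩
  · ext i j
    by_cases hij : i = j
    · subst hij; simp [hall i]
    · simp [hij, hoff i j hij]
  · have := hdiag 0 1 (by decide)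
    rw [hall 1] at this
    rw [pow_two]; exact this

theorem card_ker_le_sqrt {F H : Type*} [Field F] [Finite F] [Group H]
    (L : H →* Matrix (Fin 4) (Fin 4) K) (hL : Function.Injective L) (ψ : F →+* K)
    (N : Subgroup H)
    (hN : ∀ x ∈ N, L x = Matrix.scalar (Fin 4) (L x 0 0) ∧ L x 0 0 ^ 2 = 1) :
    Nat.card N ≤ Nat.card {c : F // c ^ 2 = 1} := by
  have hroot : ∀ c : K, c ^ 2 = 1 → ∃ d : F, d ^ 2 = 1 ∧ ψ d = c := fun c hc => by
    rcases sq_eq_one_iff.1 hc with rfl | rfl
    · exact ⟨1, one_pow 2, map_one _⟩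
    · exact ⟨-1, neg_one_sq, by rw [map_neg, map_one]⟩
  choose r hr1 hr2 using hroot
  refine Nat.card_le_card_of_injective
    (fun x => ⟨r _ (hN x.1 x.2).2, hr1 _ (hN x.1 x.2).2⟩) fun x y h => ?_
  refine Subtype.ext (hL ?_)
  have h' := congrArg (fun c : {c : F // c ^ 2 = 1} => ψ c.1) h
  simp only [hr2] at h'
  rw [(hN x.1 x.2).1, (hN y.1 y.2).1]
  exact congrArg _ h'

theorem ker_le_center_of_scalar {H : Type*} [Group H]
    (L : H →* Matrix (Fin 4) (Fin 4) K) (hL : Function.Injective L) {x : H} {c : K}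
    (hx : L x = Matrix.scalar (Fin 4) c) : x ∈ Subgroup.center H :=
  Subgroup.mem_center_iff.2 fun y => hL (by
    rw [map_mul, map_mul, hx]
    exact ((Matrix.scalar_commute c (Commute.all c) (L y)).eq).symm)

variable {F : Type*} [Field F]

/-- The Plücker coordinates. -/
def plusMap (F : Type*) [Field F] :
    (Fin 3 ⊕ Fin 3 → F) →ₗ[F] Matrix (Fin 4) (Fin 4) F where
  toFun v := altMat (v (.inl 0)) (v (.inl 1)) (v (.inl 2)) (v (.inr 2)) (-v (.inr 1)) (v (.inr 0))
  map_add' v w := by
    rw [← altMat_add]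
    simp [add_comm]
  map_smul' c v := by
    rw [RingHom.id_apply, ← altMat_smul]
    simp

theorem slMat_injective {n : Type*} [Fintype n] [DecidableEq n] {R : Type*} [CommRing R] :
    Function.Injective (slMat n R) := fun _ _ h => Subtype.ext h

/-- The exterior square model of `PΩ⁺₆`. -/
def wedgeModel (F : Type*) [Field F] :
    Model (qPlus 3 F) SL(4, F) (Matrix (Fin 4) (Fin 4) F) (RingHom.id F) where
  E := plusMap F
  T := congrAct (slMat (Fin 4) F)
  Φ := pf
  inj v w h := by
    have h01 := congrFun (congrFun h 0) 1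
    have h02 := congrFun (congrFun h 0) 2
    have h03 := congrFun (congrFun h 0) 3
    have h12 := congrFun (congrFun h 1) 2
    have h13 := congrFun (congrFun h 1) 3
    have h23 := congrFun (congrFun h 2) 3
    simp [plusMap, altMat] at h01 h02 h03 h12 h13 h23
    funext x
    rcases x with i | i <;> fin_cases i <;> assumption
  mem A v := by
    set N := congrAct (slMat (Fin 4) F) A (plusMap F v) with hN
    refine ⟨Sum.elim ![N 0 1, N 0 2, N 0 3] ![N 2 3, -N 1 3, N 1 2], ?_⟩
    calc plusMap F (Sum.elim ![N 0 1, N 0 2, N 0 3] ![N 2 3, -N 1 3, N 1 2]) = altOf N := by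
          simp [plusMap, altOf]
      _ = N := altOf_congr _ _ _ _ _ _ _
  eval v := by
    simp [plusMap, pf_altMat, coe_qPlus, Cfsg.quadFormPlus, Fin.sum_univ_three]
    try ring
  invariant A v := by
    show pf (slMat (Fin 4) F A * plusMap F v * (slMat (Fin 4) F A)ᵀ) = pf (plusMap F v)
    simp only [plusMap, LinearMap.coe_mk, AddHom.coe_mk, pf_congr, pf_altMat, slMat_apply,
      Matrix.SpecialLinearGroup.det_coe, one_mul]

theorem nonempty_pomega_six_plus [Fintype F] :
    Nonempty (Cfsg.POmega F (Cfsg.quadFormPlus 3 F) ≃* ProjectiveSpecialLinearGroup (Fin 4) F) := by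
  classical
  have hperf : commutator SL(4, F) = ⊤ := commutator_SL_eq_top (by norm_num)
  set M := wedgeModel F
  have hkey : ∀ A ∈ M.hom.ker, slMat (Fin 4) F A = Matrix.scalar (Fin 4) (slMat (Fin 4) F A 0 0) ∧
      slMat (Fin 4) F A 0 0 ^ 2 = 1 := by
    intro A hA
    rw [Model.mem_ker_iff] at hA
    refine eq_scalar_of_fix _ fun p01 p02 p03 p12 p13 p23 => ?_
    have := hA (Sum.elim ![p01, p02, p03] ![p23, -p13, p12])
    simpa [M, wedgeModel, plusMap, congrAct_apply] using this
  have hcard : Nat.card (OQ (qPlus 3 F)) ≤ 2 * Nat.card SL(4, F) := by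
    have h := card_SL (F := F) 4 (by norm_num)
    rw [Fin.prod_univ_four] at h
    rw [card_OQ_qPlus rfl 2]
    simp only [Fin.val_zero, Fin.val_one, Fin.val_two, show ((3 : Fin 4) : ℕ) = 3 from rfl] at h
    simp only [Finset.prod_range_succ, Finset.prod_range_zero, one_mul, Nat.reduceAdd, Nat.reduceMul]
    have hq := Fintype.one_lt_card (α := F)
    set q := Fintype.card F
    refine Nat.le_of_mul_le_mul_left ?_ (show 0 < q - 1 by omega)
    rw [show (q - 1) * (2 * Nat.card SL(4, F)) = 2 * ((q - 1) * Nat.card SL(4, F)) by ring, h]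
    have hp : ∀ k, 1 ≤ q ^ k := fun k => Nat.one_le_pow _ _ (by omega)
    have hle : ∀ k, k ≤ 4 → q ^ k ≤ q ^ 4 := fun k hk => Nat.pow_le_pow_right (by omega) hk
    apply le_of_eq
    zify [hp 2, hp 3, hp 4, hle 0 (by omega), hle 1 (by omega), hle 2 (by omega), hle 3 (by omega),
      show 1 ≤ q by omega]
    ring
  have h := nonempty_pomega_equiv_of_fourGen (qPlus_nondeg (F := F) 3) (Or.inr (by simp)) (by simp)
    M.hom (fourGen_of_perfect hperf)
    (fun A hA => ker_le_center_of_scalar _ slMat_injective (hkey A hA).1)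
    (card_ker_le_sqrt _ slMat_injective (RingHom.id F) _ hkey) hcard
    (fun g => mem_center_of_commutator_central_of_perfect hperf)
  rw [coe_qPlus] at h
  exact h

end CfsgLib.Classical.SmallOrtho
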