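import Cfsg.Agent.Lib.Classical.Quad.OmegaIndex
import Cfsg.Agent.Lib.Classical.Quad.StandardForms

/-!
A small orthogonal group modulo its centre, presented through a linear model: a group `H` acting
semilinearly compatibly on a space `W` which contains a form of the quadratic space.
-/

set_option autoImplicit false

namespace CfsgLib.Classical.SmallOrtho

open QuadraticMap CfsgLib.Classical.Quad
open scoped Matrix commutatorElement

section Groups

variable {H : Type*} [Group H]

/-- The group is generated by commutators and fourth powers. -/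
def FourGen (H : Type*) [Group H] : Prop :=
  Subgroup.closure (Set.range fun x : H => x ^ 4) ⊔ commutator H = ⊤

theorem fourGen_of_perfect (h : commutator H = ⊤) : FourGen H := by
  rw [FourGen, h, sup_top_eq]

theorem FourGen.hom_eq_one (h : FourGen H) {A : Type*} [CommGroup A] (f : H →* A)
    (hA : ∀ x : H, f x ^ 4 = 1) : f = 1 := by
  have hle : Subgroup.closure (Set.range fun x : H => x ^ 4) ⊔ commutator H ≤ f.ker := by
    refine sup_le ((Subgroup.closure_le _).2 ?_) (Abelianization.commutator_subset_ker f)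
    rintro _ ⟨x, rfl⟩
    show f (x ^ 4) = 1
    rw [map_pow, hA]
  rw [h] at hle
  exact MonoidHom.ext fun x => hle (Subgroup.mem_top x)

theorem FourGen.map_le {G : Type*} [Group G] (h : FourGen H) (f : H →* G) :
    f.range ≤ Subgroup.closure (Set.range fun x : G => x ^ 4) ⊔ commutator G := by
  rw [MonoidHom.range_eq_map, ← h, Subgroup.map_sup, MonoidHom.map_closure]
  refine sup_le_sup (Subgroup.closure_mono ?_) ?_
  · rintro _ ⟨_, ⟨x, rfl⟩, rfl⟩
    exact ⟨f x, (map_pow f x 4).symm⟩
  · rw [commutator_def, commutator_def, Subgroup.map_commutator]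
    exact Subgroup.commutator_mono le_top le_top

theorem FourGen.prod {K : Type*} [Group K] (hH : FourGen H) (hK : FourGen K) :
    FourGen (H × K) := by
  rw [FourGen, eq_top_iff]
  rintro ⟨x, y⟩ -
  rw [show (x, y) = MonoidHom.inl H K x * MonoidHom.inr H K y by simp]
  exact mul_mem (hH.map_le (MonoidHom.inl H K) ⟨x, rfl⟩) (hK.map_le (MonoidHom.inr H K) ⟨y, rfl⟩)

/-- The commutator with an element central modulo the centre. -/
def commHom (g : H) (hg : ∀ x, ⁅g, x⁆ ∈ Subgroup.center H) : H →* Subgroup.center H :=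
  MonoidHom.mk' (fun x => ⟨⁅g, x⁆, hg x⟩) fun x y => by
    apply Subtype.ext
    show ⁅g, x * y⁆ = ⁅g, x⁆ * ⁅g, y⁆
    calc ⁅g, x * y⁆ = ⁅g, x⁆ * (x * ⁅g, y⁆ * x⁻¹) := by
          simp only [commutatorElement_def]; group
      _ = ⁅g, x⁆ * ⁅g, y⁆ := by
          rw [Subgroup.mem_center_iff.1 (hg y) x, mul_inv_cancel_right]

theorem mem_center_of_commHom_eq_one (g : H) (hg : ∀ x, ⁅g, x⁆ ∈ Subgroup.center H)
    (h : ∀ x, commHom g hg x = 1) : g ∈ Subgroup.center H := by
  refine Subgroup.mem_center_iff.2 fun x => ?_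
  have : ⁅g, x⁆ = 1 := congrArg Subtype.val (h x)
  exact (commutatorElement_eq_one_iff_mul_comm.1 this).symm

theorem mem_center_of_commutator_central (hgen : FourGen H)
    (hexp : ∀ z ∈ Subgroup.center H, z ^ 4 = 1) {g : H}
    (hg : ∀ x, ⁅g, x⁆ ∈ Subgroup.center H) : g ∈ Subgroup.center H := by
  refine mem_center_of_commHom_eq_one g hg fun x => ?_
  have hf := hgen.hom_eq_one (Abelianization.of.comp (commHom g hg)) fun x => by
    rw [MonoidHom.comp_apply, ← map_pow]
    exact (congrArg _ (Subtype.ext (hexp _ (commHom g hg x).2))).trans (map_one _)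
  have hx : Abelianization.of (commHom g hg x) = 1 := DFunLike.congr_fun hf x
  have hmem : commHom g hg x ∈ commutator (Subgroup.center H) :=
    (QuotientGroup.eq_one_iff _).1 hx
  rw [show commutator (Subgroup.center H) = ⊥ from by
    rw [commutator_def, eq_bot_iff, Subgroup.commutator_le]
    exact fun a _ b _ => commutatorElement_eq_one_iff_mul_comm.2
      (Subtype.ext (Subgroup.mem_center_iff.1 a.2 b.1).symm)] at hmem
  exact hmem

theorem mem_center_of_commutator_central_of_perfect (hperf : commutator H = ⊤) {g : H}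
    (hg : ∀ x, ⁅g, x⁆ ∈ Subgroup.center H) : g ∈ Subgroup.center H := by
  refine mem_center_of_commHom_eq_one g hg fun x => ?_
  have hmem : commHom g hg x ∈ (commutator H).map (commHom g hg) :=
    ⟨x, hperf.symm ▸ Subgroup.mem_top x, rfl⟩
  rw [commutator_def, Subgroup.map_commutator] at hmem
  have hbot : ⁅(⊤ : Subgroup H).map (commHom g hg), (⊤ : Subgroup H).map (commHom g hg)⁆ = ⊥ := by
    rw [eq_bot_iff, Subgroup.commutator_le]
    exact fun a _ b _ => commutatorElement_eq_one_iff_mul_comm.2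
      (Subtype.ext (Subgroup.mem_center_iff.1 a.2 b.1).symm)
  rw [hbot] at hmem
  exact hmem

/-- A subgroup that is the image of `H` by a hom with central kernel is `H` modulo its centre,
modulo its own centre. -/
theorem nonempty_quotient_equiv {G : Type*} [Group G] (φ : H →* G) (K : Subgroup G)
    (hrange : φ.range = K) (hker : φ.ker ≤ Subgroup.center H)
    (hgrun : ∀ g : H, (∀ x, ⁅g, x⁆ ∈ Subgroup.center H) → g ∈ Subgroup.center H) :
    Nonempty (K ⧸ Subgroup.center K ≃* H ⧸ Subgroup.center H) := by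
  subst hrange
  let ψ : H →* φ.range ⧸ Subgroup.center φ.range :=
    (QuotientGroup.mk' _).comp φ.rangeRestrict
  have hsurj : Function.Surjective ψ :=
    (QuotientGroup.mk'_surjective _).comp φ.rangeRestrict_surjective
  have hk : ψ.ker = Subgroup.center H := by
    ext g
    rw [MonoidHom.mem_ker, show ψ g = QuotientGroup.mk (φ.rangeRestrict g) from rfl,
      QuotientGroup.eq_one_iff, Subgroup.mem_center_iff]
    constructor
    · intro h
      refine hgrun g fun x => hker ?_
      have := congrArg Subtype.val (h (φ.rangeRestrict x))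
      simp only [Subgroup.coe_mul, MonoidHom.coe_rangeRestrict] at this
      rw [MonoidHom.mem_ker, map_commutatorElement, commutatorElement_eq_one_iff_mul_comm, this]
    · intro h y
      obtain ⟨x, rfl⟩ := φ.rangeRestrict_surjective y
      rw [← map_mul, ← map_mul, Subgroup.mem_center_iff.1 h x]
  exact ⟨((QuotientGroup.quotientMulEquivOfEq hk).symm.trans
    (QuotientGroup.quotientKerEquivOfSurjective ψ hsurj)).symm⟩

end Groups

section Model

variable {F K : Type*} [Field F] [Field K] {ι : Type} [Fintype ι] [DecidableEq ι]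
  {W : Type*} [AddCommGroup W] [Module K W] {ψ : F →+* K} {H : Type*} [Group H]

/-- A model of a quadratic space inside a representation of `H`. -/
structure Model (Q : QuadraticForm F (ι → F)) (H : Type*) [Group H] (W : Type*) [AddCommGroup W]
    [Module K W] (ψ : F →+* K) where
  /-- The embedding of the quadratic space. -/
  E : (ι → F) →ₛₗ[ψ] W
  /-- The action. -/
  T : H →* Module.End K W
  /-- The invariant function. -/
  Φ : W → K
  inj : Function.Injective E
  mem : ∀ h v, ∃ w, E w = T h (E v)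
  eval : ∀ v, Φ (E v) = ψ (Q v)
  invariant : ∀ h v, Φ (T h (E v)) = Φ (E v)

variable {Q : QuadraticForm F (ι → F)} (M : Model Q H W ψ)

theorem Model.exists_lin (h : H) :
    ∃ L : (ι → F) →ₗ[F] (ι → F), ∀ v, M.E (L v) = M.T h (M.E v) := by
  choose L hL using M.mem h
  refine ⟨⟨⟨L, fun v w => M.inj ?_⟩, fun c v => M.inj ?_⟩, hL⟩
  · simp only [map_add, hL]
  · show M.E (L (c • v)) = M.E (c • L v)
    rw [hL, M.E.map_smulₛₗ, M.E.map_smulₛₗ, map_smul, hL]

/-- The induced linear map. -/
noncomputable def Model.lin (h : H) : (ι → F) →ₗ[F] (ι → F) := (M.exists_lin h).choose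

theorem Model.E_lin (h : H) (v : ι → F) : M.E (M.lin h v) = M.T h (M.E v) :=
  (M.exists_lin h).choose_spec v

/-- The induced matrices. -/
noncomputable def Model.matHom : H →* Matrix ι ι F where
  toFun h := LinearMap.toMatrix' (M.lin h)
  map_one' := by
    rw [show M.lin 1 = LinearMap.id from LinearMap.ext fun v => M.inj (by
      rw [M.E_lin, map_one]; rfl), LinearMap.toMatrix'_id]
  map_mul' g h := by
    rw [show M.lin (g * h) = (M.lin g).comp (M.lin h) from LinearMap.ext fun v => M.inj (by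
      rw [M.E_lin, map_mul, LinearMap.comp_apply, M.E_lin, M.E_lin]; rfl),
      LinearMap.toMatrix'_comp]

theorem Model.matHom_mulVec (h : H) (v : ι → F) : M.E (M.matHom h *ᵥ v) = M.T h (M.E v) := by
  rw [← M.E_lin]
  exact congrArg M.E (LinearMap.toMatrix'_mulVec (M.lin h) v)

/-- The induced isometries. -/
noncomputable def Model.hom : H →* Cfsg.isometryGroup F (⇑Q) :=
  M.matHom.toHomUnits.codRestrict _ fun h u _ => ψ.injective (by
    show ψ (Q (M.matHom h *ᵥ u)) = ψ (Q u)
    rw [← M.eval, M.matHom_mulVec, M.invariant, M.eval])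

theorem Model.mem_ker_iff {h : H} : h ∈ M.hom.ker ↔ ∀ v, M.T h (M.E v) = M.E v := by
  have hval : ((M.hom h : Matrix.GeneralLinearGroup ι F) : Matrix ι ι F) = M.matHom h := rfl
  constructor
  · intro hh v
    rw [MonoidHom.mem_ker.1 hh] at hval
    rw [← M.matHom_mulVec, ← hval]
    exact congrArg M.E (Matrix.one_mulVec v)
  · intro hh
    refine MonoidHom.mem_ker.2 (Subtype.ext (Units.ext ?_))
    rw [hval]
    refine Matrix.toLin'.injective (LinearMap.ext fun v => M.inj ?_)
    rw [Matrix.toLin'_apply, Matrix.toLin'_apply, M.matHom_mulVec, hh]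
    exact congrArg M.E (Matrix.one_mulVec v).symm

end Model

section POmega

variable {F : Type*} [Field F] {ι : Type} [Fintype ι] [DecidableEq ι]
  {Q : QuadraticForm F (ι → F)} {H : Type*} [Group H]

theorem nonempty_pomega_equiv [Finite F] [Finite H] (φ : H →* Cfsg.isometryGroup F (⇑Q))
    (hle : φ.range ≤ Cfsg.Omega F (⇑Q))
    (hcard : Nat.card φ.ker * Nat.card (Cfsg.Omega F (⇑Q)) ≤ Nat.card H)
    (hker : φ.ker ≤ Subgroup.center H)
    (hgrun : ∀ g : H, (∀ x, ⁅g, x⁆ ∈ Subgroup.center H) → g ∈ Subgroup.center H) :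
    Nonempty (Cfsg.POmega F (⇑Q) ≃* H ⧸ Subgroup.center H) := by
  refine nonempty_quotient_equiv φ _ (Subgroup.eq_of_le_of_card_ge hle ?_) hker hgrun
  have h1 : Nat.card φ.ker * Nat.card φ.range = Nat.card H := by
    rw [← Subgroup.index_ker φ, φ.ker.card_mul_index]
  exact Nat.le_of_mul_le_mul_left (hcard.trans h1.ge) Nat.card_pos

theorem card_sqClass_mul_card_sqrt_one [Finite F] :
    Nat.card (SqClass F) = Nat.card {c : F // c ^ 2 = 1} := by
  by_cases h2 : (2 : F) = 0
  · rw [card_sqClass_of_two_eq_zero h2]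
    symm
    rw [Nat.card_eq_one_iff_unique]
    refine ⟨⟨fun a b => Subtype.ext ?_⟩, ⟨⟨1, one_pow 2⟩⟩⟩
    have key : ∀ c : F, c ^ 2 = 1 → c = 1 := fun c hc => by
      have : (c - 1) * (c - 1) = 0 := by linear_combination hc + (-c + 1) * h2
      exact sub_eq_zero.1 (mul_self_eq_zero.1 this)
    rw [key _ a.2, key _ b.2]
  · rw [card_sqClass_of_odd h2]
    refine (Eq.symm ?_)
    rw [show Nat.card {c : F // c ^ 2 = 1} = ({1, -1} : Set F).ncard from ?_,
      Set.ncard_pair (fun h => h2 (by linear_combination h))]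
    rw [← Nat.card_coe_set_eq]
    exact Nat.card_congr (Equiv.subtypeEquivRight fun c => by simp)

theorem omega_card_mul [Finite F] (hQ : (polarBilin Q).Nondegenerate)
    (hex : (∃ c : F, c ≠ 0 ∧ c ≠ 1) ∨ Fintype.card ι ≠ 4) (hn : 2 ≤ Fintype.card ι) :
    Nat.card (Cfsg.Omega F (⇑Q)) * (2 * Nat.card (SqClass F)) = Nat.card (OQ Q) := by
  rw [← index_Omega hQ hex hn, Subgroup.card_mul_index, card_isometryGroup_eq Q rfl]

theorem pow_four_quotient_Omega [Finite F] (hQ : (polarBilin Q).Nondegenerate)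
    (hex : (∃ c : F, c ≠ 0 ∧ c ≠ 1) ∨ Fintype.card ι ≠ 4)
    (x : Cfsg.isometryGroup F (⇑Q)) (hn : 2 ≤ Fintype.card ι) :
    (x : Cfsg.isometryGroup F (⇑Q) ⧸ Cfsg.Omega F (⇑Q)) ^ 4 = 1 := by
  have h : Nat.card (Cfsg.isometryGroup F (⇑Q) ⧸ Cfsg.Omega F (⇑Q)) ∣ 4 := by
    rw [← Subgroup.index, index_Omega hQ hex hn]
    by_cases h2 : (2 : F) = 0
    · rw [card_sqClass_of_two_eq_zero h2]; norm_num
    · rw [card_sqClass_of_odd h2]
  exact orderOf_dvd_iff_pow_eq_one.1 ((orderOf_dvd_natCard _).trans h)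

/-- The recognition of a small `PΩ`. -/
theorem nonempty_pomega_equiv_of_fourGen [Finite F] [Finite H]
    (hQ : (polarBilin Q).Nondegenerate)
    (hex : (∃ c : F, c ≠ 0 ∧ c ≠ 1) ∨ Fintype.card ι ≠ 4) (hn : 2 ≤ Fintype.card ι)
    (φ : H →* Cfsg.isometryGroup F (⇑Q)) (hgen : FourGen H)
    (hker : φ.ker ≤ Subgroup.center H)
    (hkcard : Nat.card φ.ker ≤ Nat.card {c : F // c ^ 2 = 1})
    (hcard : Nat.card (OQ Q) ≤ 2 * Nat.card H)
    (hgrun : ∀ g : H, (∀ x, ⁅g, x⁆ ∈ Subgroup.center H) → g ∈ Subgroup.center H) :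
    Nonempty (Cfsg.POmega F (⇑Q) ≃* H ⧸ Subgroup.center H) := by
  refine nonempty_pomega_equiv φ ?_ ?_ hker hgrun
  · rintro _ ⟨x, rfl⟩
    have hf := hgen.hom_eq_one
      ((Abelianization.of : Cfsg.isometryGroup F (⇑Q) →* _).comp φ) fun y =>
        pow_four_quotient_Omega hQ hex (φ y) hn
    exact (QuotientGroup.eq_one_iff (φ x)).1 (DFunLike.congr_fun hf x)
  · rw [← card_sqClass_mul_card_sqrt_one] at hkcard
    have h1 := omega_card_mul hQ hex hn
    nlinarith [Nat.mul_le_mul hkcard (le_refl (Nat.card (Cfsg.Omega F (⇑Q))))]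

theorem exp_center_of_scalar {n : ℕ} {G : Type*} [Group G]
    (j : G →* Matrix (Fin n) (Fin n) F) (hj : Function.Injective j) {z : G} {c : F}
    (hz : j z = Matrix.scalar (Fin n) c) (hc : c ^ 4 = 1) : z ^ 4 = 1 :=
  hj (by rw [map_pow, hz, ← map_pow, hc, map_one, map_one])

end POmega

end CfsgLib.Classical.SmallOrtho
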