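import Cfsg.Agent.Lib.Classical.SmallOrtho.Alt
import Cfsg.Agent.Lib.Classical.OrthogonalTwoSmall

/-!
`Ω⁺₆(2) ≅ A₈ ≅ PSL₄(2)`.
-/

set_option autoImplicit false

namespace CfsgLib.Classical.SmallOrtho

open QuadraticMap CfsgLib.Classical.Quad

variable {F : Type*} [Field F] [Fintype F]

theorem nonempty_omega_six_plus_two (hF : Fintype.card F = 2) :
    Nonempty (↥(Cfsg.Omega F (Cfsg.quadFormPlus 3 F)) ≃* alternatingGroup (Fin 8)) := by
  obtain ⟨f⟩ := isometryGroup_plus_six_two hF
  have hmap : (commutator _).map f.toMonoidHom = alternatingGroup (Fin 8) := by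
    rw [commutator_def, Subgroup.map_commutator, Subgroup.map_top_of_surjective _ f.surjective,
      ← commutator_def, alternatingGroup.commutator_perm_eq (by simp)]
  exact ⟨(Subgroup.equivMapOfInjective _ f.toMonoidHom f.injective).trans
    (MulEquiv.subgroupCongr hmap)⟩

theorem index_omega_six_plus_two (hF : Fintype.card F = 2) :
    (Cfsg.Omega F (Cfsg.quadFormPlus 3 F)).index = 2 := by
  have h2 : (2 : F) = 0 := by
    obtain ⟨e⟩ := exists_zmod_equiv F (p := 2) hF
    rw [← map_ofNat e 2, show (2 : ZMod 2) = 0 from rfl, map_zero]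
  rw [← coe_qPlus, index_Omega (qPlus_nondeg 3) (Or.inr (by simp)) (by simp),
    card_sqClass_of_two_eq_zero h2]

theorem nonempty_psl_four_two (hF : Fintype.card F = 2) :
    Nonempty (Matrix.ProjectiveSpecialLinearGroup (Fin 4) F ≃* alternatingGroup (Fin 8)) := by
  obtain ⟨e⟩ := nonempty_pomega_six_plus (F := F)
  obtain ⟨f⟩ := nonempty_omega_six_plus_two hF
  have hA : Subgroup.center (alternatingGroup (Fin 8)) = ⊥ :=
    alternatingGroup.center_eq_bot (by simp)
  have hc : Subgroup.center (↥(Cfsg.Omega F (Cfsg.quadFormPlus 3 F))) = ⊥ := by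
    rw [eq_bot_iff]
    intro x hx
    have h1 : f x ∈ Subgroup.center (alternatingGroup (Fin 8)) := Subgroup.mem_center_iff.2 fun y => by
      obtain ⟨z, rfl⟩ := f.surjective y
      rw [← map_mul, ← map_mul, Subgroup.mem_center_iff.1 hx z]
    rw [hA, Subgroup.mem_bot] at h1
    exact f.injective (h1.trans (map_one f).symm)
  exact ⟨e.symm.trans ((QuotientGroup.quotientMulEquivOfEq hc).trans
    (QuotientGroup.quotientBot.trans f))⟩

end CfsgLib.Classical.SmallOrtho
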