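import Cfsg.Agent.Lib.Classical.SmallOrtho.UFourTwoData
import Cfsg.Agent.Lib.Classical.SmallOrtho.Basic
import Cfsg.Agent.Lib.Classical.RingTransfer
import Cfsg.Agent.Lib.Classical.Symplectic.MatrixStructure
import Cfsg.Agent.Lib.Classical.Symplectic.MatrixTransvection
import Cfsg.Agent.Lib.Classical.Unitary.MatrixStructure

/-!
`PSU₄(2) ≅ PSp₄(3)`: both act on forty matched points, and corresponding generators induce the
same permutations.
-/

set_option autoImplicit false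

namespace CfsgLib.Classical.UFourTwo

open scoped Matrix commutatorElement

/-- The unitary group. -/
abbrev GrpU : Type := ↥(Cfsg.SU 4 FieldFour 2)

/-- The symplectic group. -/
abbrev GrpS : Type := ↥(Matrix.symplecticGroup (Fin 2) (ZMod 3))

/-- The matrix of an element of `GrpU`. -/
abbrev GrpU.mat (Y : GrpU) : Matrix (Fin 4) (Fin 4) FieldFour :=
  ((Y : Matrix.SpecialLinearGroup (Fin 4) FieldFour) : Matrix (Fin 4) (Fin 4) FieldFour)

theorem GrpU.mat_one : GrpU.mat 1 = 1 := rfl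

theorem GrpU.mat_mul (Y Z : GrpU) : GrpU.mat (Y * Z) = Y.mat * Z.mat := rfl

theorem genU_mem (i : Fin 40) :
    (⟨genU i, genU_det i⟩ : Matrix.SpecialLinearGroup (Fin 4) FieldFour) ∈
      Cfsg.SU 4 FieldFour 2 := by
  intro u v
  show Cfsg.hermForm 4 FieldFour 2 (genU i *ᵥ u) (genU i *ᵥ v) = Cfsg.hermForm 4 FieldFour 2 u v
  have h := genU_unitary i
  have h00 := h 0 0; have h01 := h 0 1; have h02 := h 0 2; have h03 := h 0 3
  have h10 := h 1 0; have h11 := h 1 1; have h12 := h 1 2; have h13 := h 1 3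
  have h20 := h 2 0; have h21 := h 2 1; have h22 := h 2 2; have h23 := h 2 3
  have h30 := h 3 0; have h31 := h 3 1; have h32 := h 3 2; have h33 := h 3 3
  simp only [↓reduceIte, Fin.isValue, Fin.reduceEq] at *
  have hadd : ∀ a b : FieldFour, (a + b) ^ 2 = a ^ 2 + b ^ 2 := fun a b => by
    have h2 : (2 : FieldFour) = 0 := by rw [← one_add_one_eq_two]; rfl
    linear_combination a * b * h2
  simp only [Cfsg.hermForm, Matrix.mulVec, dotProduct, Fin.sum_univ_four, Fin.isValue, hadd,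
    mul_pow]
  linear_combination u 0 * v 0 ^ 2 * h00 + u 0 * v 1 ^ 2 * h01 + u 0 * v 2 ^ 2 * h02 +
    u 0 * v 3 ^ 2 * h03 + u 1 * v 0 ^ 2 * h10 + u 1 * v 1 ^ 2 * h11 + u 1 * v 2 ^ 2 * h12 +
    u 1 * v 3 ^ 2 * h13 + u 2 * v 0 ^ 2 * h20 + u 2 * v 1 ^ 2 * h21 + u 2 * v 2 ^ 2 * h22 +
    u 2 * v 3 ^ 2 * h23 + u 3 * v 0 ^ 2 * h30 + u 3 * v 1 ^ 2 * h31 + u 3 * v 2 ^ 2 * h32 +
    u 3 * v 3 ^ 2 * h33

/-- The unitary generators. -/
def eltU (i : Fin 40) : GrpU := ⟨⟨genU i, genU_det i⟩, genU_mem i⟩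

/-- The symplectic generators. -/
def eltS (i : Fin 40) : GrpS := ⟨genS i, Symp.sympTransvection_mem (ptS i) 2⟩

/-- Two elements inducing the same permutation of the forty points. -/
def Rel (X : GrpS) (Y : GrpU) : Prop :=
  ∀ q, ∃ r, ((X : Matrix (Fin 2 ⊕ Fin 2) (Fin 2 ⊕ Fin 2) (ZMod 3)) *ᵥ ptS q = ptS r ∨
    (X : Matrix (Fin 2 ⊕ Fin 2) (Fin 2 ⊕ Fin 2) (ZMod 3)) *ᵥ ptS q = -ptS r) ∧
    ∃ c : FieldFour, Y.mat *ᵥ ptU q = c • ptU r

theorem rel_one : Rel 1 1 := fun q => ⟨q, Or.inl (by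
  rw [show ((1 : GrpS) : Matrix (Fin 2 ⊕ Fin 2) (Fin 2 ⊕ Fin 2) (ZMod 3)) = 1 from rfl,
    Matrix.one_mulVec]), 1, by rw [GrpU.mat_one, Matrix.one_mulVec, one_smul]⟩

theorem rel_mul {X X' : GrpS} {Y Y' : GrpU} (h : Rel X Y) (h' : Rel X' Y') :
    Rel (X * X') (Y * Y') := by
  intro q
  obtain ⟨r, hr, c, hc⟩ := h' q
  obtain ⟨s, hs, d, hd⟩ := h r
  refine ⟨s, ?_, c * d, by rw [GrpU.mat_mul, ← Matrix.mulVec_mulVec, hc, Matrix.mulVec_smul, hd,
    smul_smul]⟩
  rw [show ((X * X' : GrpS) : Matrix (Fin 2 ⊕ Fin 2) (Fin 2 ⊕ Fin 2) (ZMod 3)) =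
    (X : Matrix (Fin 2 ⊕ Fin 2) (Fin 2 ⊕ Fin 2) (ZMod 3)) *
      (X' : Matrix (Fin 2 ⊕ Fin 2) (Fin 2 ⊕ Fin 2) (ZMod 3)) from rfl, ← Matrix.mulVec_mulVec]
  rcases hr with hr | hr <;> rcases hs with hs | hs <;> rw [hr] <;>
    simp [Matrix.mulVec_neg, hs]

theorem rel_pow {X : GrpS} {Y : GrpU} (h : Rel X Y) (n : ℕ) : Rel (X ^ n) (Y ^ n) := by
  induction n with
  | zero => simpa using rel_one
  | succ n ih => rw [pow_succ, pow_succ]; exact rel_mul ih h

theorem rel_inv {X : GrpS} {Y : GrpU} (h : Rel X Y) : Rel X⁻¹ Y⁻¹ := by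
  have hn : 0 < orderOf (X, Y) := orderOf_pos _
  have e : ((X, Y) : GrpS × GrpU)⁻¹ = (X, Y) ^ (orderOf (X, Y) - 1) := by
    refine inv_eq_of_mul_eq_one_right ?_
    rw [← pow_succ', Nat.sub_add_cancel hn, pow_orderOf_eq_one]
  have e1 := congrArg Prod.fst e
  have e2 := congrArg Prod.snd e
  simp only [Prod.fst_inv, Prod.snd_inv, Prod.pow_fst, Prod.pow_snd] at e1 e2
  rw [e1, e2]
  exact rel_pow h _

theorem rel_gen (i : Fin 40) : Rel (eltS i) (eltU i) := by
  intro q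
  obtain ⟨c, hc⟩ := applyU_perm i q
  refine ⟨perm i q, ?_, c, ?_⟩
  · show genS i *ᵥ ptS q = _ ∨ genS i *ᵥ ptS q = _
    rw [← applyS_eq]
    rcases applyS_perm i q with h | h
    · exact Or.inl (funext h)
    · exact Or.inr (funext h)
  · show genU i *ᵥ ptU q = _
    rw [← applyU_eq]
    exact funext hc

theorem sum_elim_eta (w : Fin 2 ⊕ Fin 2 → ZMod 3) :
    Sum.elim ![w (.inl 0), w (.inl 1)] ![w (.inr 0), w (.inr 1)] = w := by
  funext x
  rcases x with k | k <;> fin_cases k <;> simp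

theorem ptS_cases (w : Fin 2 ⊕ Fin 2 → ZMod 3) : w = 0 ∨ ∃ i, w = ptS i ∨ w = -ptS i := by
  rcases ptS_cover (w (.inl 0)) (w (.inl 1)) (w (.inr 0)) (w (.inr 1)) with ⟨a, b, c, d⟩ | ⟨i, h⟩
  · left
    rw [← sum_elim_eta w, a, b, c, d]
    funext x
    rcases x with k | k <;> fin_cases k <;> simp
  · refine Or.inr ⟨i, ?_⟩
    rw [← sum_elim_eta w]
    exact h.imp (fun h => funext h) (fun h => funext h)

theorem exists_rel (X : GrpS) : ∃ Y, Rel X Y := by
  have hX : X ∈ (⊤ : Subgroup GrpS) := Subgroup.mem_top X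
  rw [← Symp.closure_sympTransvection_eq_top] at hX
  induction hX using Subgroup.closure_induction with
  | one => exact ⟨1, rel_one⟩
  | mul x y _ _ hx hy => exact ⟨_, rel_mul hx.choose_spec hy.choose_spec⟩
  | inv x _ hx => exact ⟨_, rel_inv hx.choose_spec⟩
  | mem A hA =>
    obtain ⟨w, c, hA⟩ := hA
    have hzero : ∀ A : GrpS, (A : Matrix (Fin 2 ⊕ Fin 2) (Fin 2 ⊕ Fin 2) (ZMod 3)) = 1 →
        ∃ Y, Rel A Y := fun A h => ⟨1, by rw [show A = 1 from Subtype.ext h]; exact rel_one⟩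
    rcases ptS_cases w with rfl | ⟨i, hi⟩
    · exact hzero A (by rw [hA]; simp [Cfsg.sympTransvection])
    · have hA' : (A : Matrix (Fin 2 ⊕ Fin 2) (Fin 2 ⊕ Fin 2) (ZMod 3)) =
          Cfsg.sympTransvection 2 (ptS i) c := by
        rw [hA]
        rcases hi with rfl | rfl
        · rfl
        · simp [Cfsg.sympTransvection, Matrix.mulVec_neg, Matrix.vecMulVec_neg,
            Matrix.neg_vecMulVec]
      rcases (show ∀ x : ZMod 3, x = 0 ∨ x = 2 ∨ x = 2 + 2 by decide) c with rfl | rfl | rfl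
      · exact hzero A (by rw [hA']; simp [Cfsg.sympTransvection])
      · exact ⟨eltU i, by rw [show A = eltS i from Subtype.ext hA']; exact rel_gen i⟩
      · refine ⟨eltU i * eltU i, ?_⟩
        rw [show A = eltS i * eltS i from Subtype.ext (hA'.trans
          (Symp.sympTransvection_mul (ptS i) 2 2).symm)]
        exact rel_mul (rel_gen i) (rel_gen i)

theorem eq_one_of_rel_one {Y : GrpU} (h : Rel 1 Y) : Y = 1 := by
  have hfix : ∀ q, ∃ c : FieldFour, Y.mat *ᵥ ptU q = c • ptU q := by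
    intro q
    obtain ⟨r, hr, c, hc⟩ := h q
    rw [show ((1 : GrpS) : Matrix (Fin 2 ⊕ Fin 2) (Fin 2 ⊕ Fin 2) (ZMod 3)) = 1 from rfl,
      Matrix.one_mulVec] at hr
    have hqr : q = r := ptS_injective q r (hr.imp (fun h k => congrFun h k) fun h k => congrFun h k)
    exact ⟨c, hqr ▸ hc⟩
  have hf : ∀ t, ∃ c : FieldFour, ∀ k, (Y.mat *ᵥ
      ![![1, 0, 0, 0], ![0, 1, 0, 0], ![0, 0, 1, 0], ![0, 0, 0, 1], ![1, 1, 1, 0], ![0, 1, 1, 1]] t) k =
      c * ![![1, 0, 0, 0], ![0, 1, 0, 0], ![0, 0, 1, 0], ![0, 0, 0, 1], ![1, 1, 1, 0], ![0, 1, 1, 1]] t k := by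
    intro t
    obtain ⟨c, hc⟩ := hfix (frame t)
    have he := funext (ptU_frame t)
    rw [he] at hc
    exact ⟨c, fun k => congrFun hc k⟩
  obtain ⟨c0, h0⟩ := hf 0; obtain ⟨c1, h1⟩ := hf 1; obtain ⟨c2, h2⟩ := hf 2
  obtain ⟨c3, h3⟩ := hf 3; obtain ⟨c4, h4⟩ := hf 4; obtain ⟨c5, h5⟩ := hf 5
  simp [Matrix.mulVec, dotProduct, Fin.sum_univ_four, Fin.forall_fin_succ] at h0 h1 h2 h3 h4 h5
  obtain ⟨a00, a10, a20, a30⟩ := h0
  obtain ⟨a01, a11, a21, a31⟩ := h1
  obtain ⟨a02, a12, a22, a32⟩ := h2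
  obtain ⟨a03, a13, a23, a33⟩ := h3
  simp [a00, a10, a20, a30, a01, a11, a21, a31, a02, a12, a22, a32, a03, a13, a23, a33] at h4 h5
  have e1 : c1 = c0 := h4.2.1.trans h4.1.symm
  have e2 : c2 = c0 := h4.2.2.trans h4.1.symm
  have e3 : c3 = c0 := (h5.2.2.trans h5.1.symm).trans e1
  have hd : Y.mat = Matrix.scalar (Fin 4) c0 := by
    ext i j
    fin_cases i <;> fin_cases j <;>
      simp [a00, a10, a20, a30, a01, a11, a21, a31, a02, a12, a22, a32, a03, a13, a23, a33, e1, e2, e3]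
  have hdet : c0 ^ 4 = 1 := by
    have h : Y.mat.det = 1 := (Y : Matrix.SpecialLinearGroup (Fin 4) FieldFour).det_coe
    rw [hd] at h
    simpa using h
  have hc0 : c0 = 1 := by
    revert hdet
    cases c0 <;> decide
  refine Subtype.ext (Subtype.ext ?_)
  show Y.mat = GrpU.mat 1
  rw [hd, hc0, GrpU.mat_one, map_one]

theorem eq_of_rel {X : GrpS} {Y Y' : GrpU} (h : Rel X Y) (h' : Rel X Y') : Y = Y' := by
  have := eq_one_of_rel_one (Y := Y⁻¹ * Y') (by
    have := rel_mul (rel_inv h) h'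
    rwa [inv_mul_cancel] at this)
  exact inv_mul_eq_one.1 this

/-- The homomorphism. -/
noncomputable def toU : GrpS →* GrpU :=
  MonoidHom.mk' (fun X => (exists_rel X).choose) fun X X' =>
    eq_of_rel (exists_rel (X * X')).choose_spec
      (rel_mul (exists_rel X).choose_spec (exists_rel X').choose_spec)

theorem rel_toU (X : GrpS) : Rel X (toU X) := (exists_rel X).choose_spec

theorem scalar_of_mem_ker {X : GrpS} (hX : X ∈ toU.ker) : ∃ c : ZMod 3, c ≠ 0 ∧
    (X : Matrix (Fin 2 ⊕ Fin 2) (Fin 2 ⊕ Fin 2) (ZMod 3)) = Matrix.scalar _ c := by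
  set A := (X : Matrix (Fin 2 ⊕ Fin 2) (Fin 2 ⊕ Fin 2) (ZMod 3)) with hA
  have hfix : ∀ w, ∃ c : ZMod 3, c ≠ 0 ∧ A *ᵥ w = c • w := by
    intro w
    rcases ptS_cases w with rfl | ⟨q, hq⟩
    · exact ⟨1, one_ne_zero, by simp⟩
    · obtain ⟨r, hr, c, hc⟩ := rel_toU X q
      rw [MonoidHom.mem_ker.1 hX, GrpU.mat_one, Matrix.one_mulVec] at hc
      have hqr : q = r := ptU_injective q r c fun k => congrFun hc k
      subst hqr
      rcases hr with hr | hr
      · exact ⟨1, one_ne_zero, by rcases hq with rfl | rfl <;> simp [Matrix.mulVec_neg, hA, hr]⟩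
      · exact ⟨-1, by decide, by rcases hq with rfl | rfl <;> simp [Matrix.mulVec_neg, hA, hr]⟩
  choose c hc0 hc using hfix
  have hcol : ∀ i k, A i k = if i = k then c (Pi.single k 1) else 0 := fun i k => by
    have := congrFun (hc (Pi.single k 1)) i
    simpa [Matrix.mulVec_single_one, Pi.single_apply] using this
  refine ⟨c (Pi.single (.inl 0) 1), hc0 _, Matrix.ext fun i k => ?_⟩
  rw [Matrix.scalar_apply, Matrix.diagonal_apply, hcol]
  split_ifs with hik
  · by_cases hk : k = .inl 0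
    · rw [hk]
    · have h := hc (Pi.single k 1 + Pi.single (.inl 0) 1)
      rw [Matrix.mulVec_add, hc, hc] at h
      have e1 := congrFun h k
      have e2 := congrFun h (.inl 0)
      simp [Pi.single_apply, hk, Ne.symm hk] at e1 e2
      rw [e1, e2]
  · rfl

theorem ker_toU_le : toU.ker ≤ Subgroup.center GrpS := fun X hX => by
  obtain ⟨c, -, hc⟩ := scalar_of_mem_ker hX
  refine Subgroup.mem_center_iff.2 fun Z => Subtype.ext ?_
  show (Z : Matrix (Fin 2 ⊕ Fin 2) (Fin 2 ⊕ Fin 2) (ZMod 3)) *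
      (X : Matrix (Fin 2 ⊕ Fin 2) (Fin 2 ⊕ Fin 2) (ZMod 3)) = _
  rw [hc]
  exact ((Matrix.scalar_commute c (Commute.all c) _).eq).symm.trans (by rw [← hc]; rfl)

theorem card_ker_toU : Nat.card toU.ker ≤ 2 := by
  choose c hc0 hc using fun X : toU.ker => scalar_of_mem_ker X.2
  have h2 : Nat.card {c : ZMod 3 // c ≠ 0} = 2 := by
    rw [Nat.card_eq_fintype_card]
    decide
  refine le_trans ?_ h2.le
  refine Nat.card_le_card_of_injective (fun X => ⟨c X, hc0 X⟩) fun X X' h => ?_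
  refine Subtype.ext (Subtype.ext ?_)
  rw [hc X, hc X']
  exact congrArg _ (congrArg Subtype.val h)

theorem range_toU : toU.range = ⊤ := by
  refine Subgroup.eq_top_of_card_eq _ (le_antisymm (Subgroup.card_le_card_group _) ?_)
  have h1 : Nat.card toU.ker * Nat.card toU.range = Nat.card GrpS := by
    rw [← Subgroup.index_ker toU, toU.ker.card_mul_index]
  have hU := Herm.card_SU (F := FieldFour) (q := 2) (by rw [FieldFour.card_fieldFour]; norm_num) 4
    (by norm_num)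
  have hS : Nat.card GrpS = 51840 := by
    rw [Symp.card_symplecticGroup, ZMod.card]
    simp [Finset.prod_range_succ]
  simp [Finset.prod_range_succ, Nat.even_iff] at hU
  nlinarith [card_ker_toU, Nat.mul_le_mul_right (Nat.card toU.range) card_ker_toU]

theorem nonempty_concrete : Nonempty (Cfsg.PSU 4 FieldFour 2 ≃* Cfsg.PSp 2 (ZMod 3)) := by
  have hperf : commutator GrpS = ⊤ :=
    Symp.commutator_symplecticGroup_eq_top (Or.inl ⟨le_rfl, by decide⟩)
  obtain ⟨e⟩ := SmallOrtho.nonempty_quotient_equiv toU ⊤ range_toU ker_toU_le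
    (fun g => SmallOrtho.mem_center_of_commutator_central_of_perfect hperf)
  exact ⟨(QuotientGroup.congr _ _ Subgroup.topEquiv
    (Herm.map_center_of_equiv Subgroup.topEquiv)).symm.trans e⟩

section Transfer

variable {R S : Type*} [Field R] [Field S] {n q : ℕ}

theorem map_mem_SU (e : R ≃+* S) {A : Matrix.SpecialLinearGroup (Fin n) R}
    (hA : A ∈ Cfsg.SU n R q) :
    Matrix.SpecialLinearGroup.map (e : R →+* S) A ∈ Cfsg.SU n S q := by
  intro u v
  show Cfsg.hermForm n S q ((A : Matrix (Fin n) (Fin n) R).map e *ᵥ u)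
    ((A : Matrix (Fin n) (Fin n) R).map e *ᵥ v) = Cfsg.hermForm n S q u v
  rw [map_mulVec_eq, map_mulVec_eq]
  have h : Cfsg.hermForm n R q ((A : Matrix (Fin n) (Fin n) R) *ᵥ (e.symm ∘ u))
      ((A : Matrix (Fin n) (Fin n) R) *ᵥ (e.symm ∘ v)) =
      Cfsg.hermForm n R q (e.symm ∘ u) (e.symm ∘ v) := hA (e.symm ∘ u) (e.symm ∘ v)
  have h' := congrArg e h
  simp only [Cfsg.hermForm, map_sum, map_mul, map_pow, Function.comp_apply,
    RingEquiv.apply_symm_apply] at h'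
  exact h'

/-- Transport of `SU` along a ring isomorphism. -/
def suMap (e : R ≃+* S) : Cfsg.SU n R q ≃* Cfsg.SU n S q where
  toFun A := ⟨_, map_mem_SU e A.2⟩
  invFun A := ⟨_, map_mem_SU e.symm A.2⟩
  left_inv A := by
    apply Subtype.ext
    ext i j
    simp
  right_inv A := by
    apply Subtype.ext
    ext i j
    simp
  map_mul' A B := Subtype.ext (map_mul _ _ _)

end Transfer

theorem nonempty_psu_four_two {F K : Type*} [Field F] [Fintype F] [Field K] [Fintype K]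
    (hF : Fintype.card F = 4) (hK : Fintype.card K = 3) :
    Nonempty (Cfsg.PSU 4 F 2 ≃* Cfsg.PSp 2 K) := by
  obtain ⟨e⟩ := nonempty_concrete
  let a : FieldFour ≃+* F := FiniteField.ringEquivOfCardEq (by rw [FieldFour.card_fieldFour, hF])
  obtain ⟨b⟩ := exists_zmod_equiv K (p := 3) hK
  let f : Cfsg.PSU 4 FieldFour 2 ≃* Cfsg.PSU 4 F 2 :=
    QuotientGroup.congr _ _ (suMap a) (Herm.map_center_of_equiv (suMap a))
  let g : Cfsg.PSp 2 (ZMod 3) ≃* Cfsg.PSp 2 K :=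
    QuotientGroup.congr _ _ (symplecticMap b (Fin 2)) (Herm.map_center_of_equiv (symplecticMap b (Fin 2)))
  exact ⟨f.symm.trans (e.trans g)⟩

end CfsgLib.Classical.UFourTwo
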