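import Cfsg.Prelude.Def_Classical
import Cfsg.Prelude.Def_ClassicalGeometry
import Mathlib.Algebra.Ring.MinimalAxioms
import Mathlib.Data.ZMod.Basic

/-!
A computable field of four elements, and a matching of the forty anisotropic points of the
Hermitian space of dimension four over it with the forty points of the symplectic space of
dimension four over the field of three elements.
-/

set_option autoImplicit false

namespace CfsgLib.Classical.UFourTwo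

/-- The field of four elements `0, 1, w, w + 1`. -/
inductive FieldFour
  | o | i | w | v
  deriving DecidableEq

namespace FieldFour

instance : Fintype FieldFour := ⟨⟨{o, i, w, v}, by decide⟩, fun x => by cases x <;> decide⟩

/-- Addition. -/
def add : FieldFour → FieldFour → FieldFour
  | .o, x => x
  | x, .o => x
  | .i, .i => .o
  | .i, .w => .v
  | .i, .v => .w
  | .w, .i => .v
  | .w, .w => .o
  | .w, .v => .i
  | .v, .i => .w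
  | .v, .w => .i
  | .v, .v => .o

/-- Multiplication. -/
def mul : FieldFour → FieldFour → FieldFour
  | .o, _ => .o
  | _, .o => .o
  | .i, x => x
  | x, .i => x
  | .w, .w => .v
  | .w, .v => .i
  | .v, .w => .i
  | .v, .v => .w

/-- Inversion. -/
def inv : FieldFour → FieldFour
  | .o => .o
  | .i => .i
  | .w => .v
  | .v => .w

instance : Zero FieldFour := ⟨o⟩
instance : One FieldFour := ⟨i⟩
instance : Add FieldFour := ⟨add⟩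
instance : Mul FieldFour := ⟨mul⟩
instance : Neg FieldFour := ⟨id⟩
instance : Inv FieldFour := ⟨inv⟩

instance instCommRingFieldFour : CommRing FieldFour :=
  CommRing.ofMinimalAxioms
    (fun a b c => by cases a <;> cases b <;> cases c <;> rfl)
    (fun a => by cases a <;> rfl)
    (fun a => by cases a <;> rfl)
    (fun a b c => by cases a <;> cases b <;> cases c <;> rfl)
    (fun a b => by cases a <;> cases b <;> rfl)
    (fun a => by cases a <;> rfl)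
    (fun a b c => by cases a <;> cases b <;> cases c <;> rfl)

instance instFieldFieldFour : Field FieldFour where
  toCommRing := instCommRingFieldFour
  exists_pair_ne := ⟨o, i, fun h => nomatch h⟩
  mul_inv_cancel a ha := by
    cases a <;> first | exact absurd rfl ha | rfl
  inv_zero := rfl
  nnqsmul := _
  qsmul := _

theorem card_fieldFour : Fintype.card FieldFour = 4 := rfl

end FieldFour

/-- The anisotropic points. -/
def tabU : List (List FieldFour) :=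
  [[.o, .o, .o, .i],
    [.o, .o, .i, .o],
    [.o, .i, .o, .o],
    [.o, .i, .i, .i],
    [.o, .i, .i, .w],
    [.o, .i, .i, .v],
    [.o, .i, .w, .i],
    [.o, .i, .w, .w],
    [.o, .i, .w, .v],
    [.o, .i, .v, .i],
    [.o, .i, .v, .w],
    [.o, .i, .v, .v],
    [.i, .o, .o, .o],
    [.i, .o, .i, .i],
    [.i, .o, .i, .w],
    [.i, .o, .i, .v],
    [.i, .o, .w, .i],
    [.i, .o, .w, .w],
    [.i, .o, .w, .v],
    [.i, .o, .v, .i],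
    [.i, .o, .v, .w],
    [.i, .o, .v, .v],
    [.i, .i, .o, .i],
    [.i, .i, .o, .w],
    [.i, .i, .o, .v],
    [.i, .i, .i, .o],
    [.i, .i, .w, .o],
    [.i, .i, .v, .o],
    [.i, .w, .o, .i],
    [.i, .w, .o, .w],
    [.i, .w, .o, .v],
    [.i, .w, .i, .o],
    [.i, .w, .w, .o],
    [.i, .w, .v, .o],
    [.i, .v, .o, .i],
    [.i, .v, .o, .w],
    [.i, .v, .o, .v],
    [.i, .v, .i, .o],
    [.i, .v, .w, .o],
    [.i, .v, .v, .o]]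

/-- The matching symplectic points. -/
def tabS : List (List (ZMod 3)) :=
  [[0, 0, 0, 1],
    [0, 0, 1, 0],
    [0, 0, 1, 1],
    [1, 1, 0, 0],
    [1, 1, 0, 1],
    [1, 1, 0, 2],
    [1, 1, 1, 0],
    [1, 1, 1, 1],
    [1, 1, 1, 2],
    [1, 1, 2, 0],
    [1, 1, 2, 1],
    [1, 1, 2, 2],
    [0, 0, 1, 2],
    [1, 2, 0, 0],
    [1, 2, 0, 2],
    [1, 2, 0, 1],
    [1, 2, 1, 0],
    [1, 2, 1, 2],
    [1, 2, 1, 1],
    [1, 2, 2, 0],
    [1, 2, 2, 2],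
    [1, 2, 2, 1],
    [0, 1, 0, 0],
    [0, 1, 0, 1],
    [0, 1, 0, 2],
    [1, 0, 0, 0],
    [1, 0, 1, 0],
    [1, 0, 2, 0],
    [0, 1, 1, 1],
    [0, 1, 1, 2],
    [0, 1, 1, 0],
    [1, 0, 1, 1],
    [1, 0, 2, 1],
    [1, 0, 0, 1],
    [0, 1, 2, 2],
    [0, 1, 2, 0],
    [0, 1, 2, 1],
    [1, 0, 2, 2],
    [1, 0, 0, 2],
    [1, 0, 1, 2]]

/-- The permutations of the generators. -/
def permTab : List (List (Fin 40)) :=
  [[0, 1, 2, 4, 5, 3, 7, 8, 6, 10, 11, 9, 12, 14, 15, 13, 17, 18, 16, 20, 21, 19, 23, 24, 22, 25, 26, 27, 29, 30, 28, 31, 32, 33, 35, 36, 34, 37, 38, 39],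
    [0, 1, 2, 6, 7, 8, 9, 10, 11, 3, 4, 5, 12, 16, 17, 18, 19, 20, 21, 13, 14, 15, 22, 23, 24, 26, 27, 25, 28, 29, 30, 32, 33, 31, 34, 35, 36, 38, 39, 37],
    [0, 1, 2, 11, 9, 10, 5, 3, 4, 8, 6, 7, 12, 13, 14, 15, 16, 17, 18, 19, 20, 21, 28, 29, 30, 31, 32, 33, 34, 35, 36, 37, 38, 39, 22, 23, 24, 25, 26, 27],
    [5, 9, 7, 3, 0, 4, 1, 11, 8, 6, 10, 2, 12, 13, 33, 23, 30, 17, 37, 26, 34, 21, 22, 38, 14, 25, 35, 16, 18, 29, 27, 20, 32, 24, 31, 19, 36, 28, 15, 39],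
    [3, 10, 8, 5, 4, 0, 6, 1, 9, 2, 7, 11, 12, 24, 14, 33, 37, 28, 18, 19, 26, 35, 15, 23, 38, 25, 36, 17, 27, 16, 30, 21, 32, 22, 34, 31, 20, 29, 13, 39],
    [4, 11, 6, 0, 3, 5, 10, 7, 1, 9, 2, 8, 12, 33, 22, 15, 16, 37, 29, 36, 20, 26, 38, 13, 24, 25, 34, 18, 28, 27, 17, 19, 32, 23, 21, 35, 31, 30, 14, 39],
    [8, 3, 10, 9, 4, 2, 6, 0, 7, 1, 5, 11, 12, 27, 34, 15, 16, 31, 23, 30, 20, 38, 22, 39, 17, 19, 26, 35, 21, 29, 25, 24, 14, 33, 32, 13, 36, 37, 28, 18],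
    [6, 4, 11, 2, 10, 5, 8, 7, 0, 9, 1, 3, 12, 13, 27, 35, 24, 17, 31, 38, 28, 21, 18, 23, 39, 20, 26, 36, 25, 19, 30, 22, 15, 33, 34, 32, 14, 37, 29, 16],
    [7, 5, 9, 3, 2, 11, 0, 6, 8, 4, 10, 1, 12, 36, 14, 27, 31, 22, 18, 19, 38, 29, 39, 16, 24, 21, 26, 34, 28, 25, 20, 23, 13, 33, 15, 35, 32, 37, 30, 17],
    [11, 6, 4, 1, 8, 5, 3, 7, 2, 9, 0, 10, 12, 30, 14, 39, 25, 34, 18, 19, 32, 23, 22, 37, 20, 35, 13, 27, 15, 29, 26, 31, 24, 17, 33, 16, 36, 21, 38, 28],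
    [9, 7, 5, 3, 1, 6, 2, 4, 8, 11, 10, 0, 12, 39, 28, 15, 16, 25, 35, 24, 20, 32, 21, 23, 37, 36, 14, 27, 26, 13, 30, 31, 22, 18, 34, 33, 17, 19, 38, 29],
    [10, 8, 3, 7, 4, 1, 6, 2, 5, 0, 9, 11, 12, 13, 39, 29, 36, 17, 25, 32, 22, 21, 37, 19, 24, 34, 15, 27, 28, 26, 14, 31, 23, 16, 18, 35, 33, 20, 38, 30],
    [0, 1, 2, 3, 4, 5, 6, 7, 8, 9, 10, 11, 12, 21, 19, 20, 15, 13, 14, 18, 16, 17, 36, 34, 35, 39, 37, 38, 24, 22, 23, 27, 25, 26, 30, 28, 29, 33, 31, 32],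
    [15, 19, 2, 3, 38, 23, 35, 7, 32, 26, 29, 11, 17, 13, 0, 14, 1, 21, 18, 16, 20, 12, 22, 33, 4, 25, 30, 6, 28, 39, 9, 31, 36, 5, 34, 27, 8, 37, 24, 10],
    [13, 20, 2, 24, 4, 38, 32, 36, 8, 9, 26, 30, 18, 15, 14, 0, 16, 1, 19, 12, 17, 21, 5, 23, 33, 25, 28, 7, 10, 29, 39, 31, 34, 3, 6, 35, 27, 37, 22, 11],
    [14, 21, 2, 38, 22, 5, 6, 32, 34, 28, 10, 26, 16, 0, 13, 15, 20, 17, 1, 19, 12, 18, 33, 3, 24, 25, 29, 8, 39, 11, 30, 31, 35, 4, 27, 7, 36, 37, 23, 9],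
    [18, 13, 2, 27, 29, 5, 6, 39, 23, 35, 10, 33, 20, 19, 14, 12, 16, 0, 17, 1, 15, 21, 22, 31, 7, 9, 26, 30, 28, 37, 3, 8, 32, 36, 34, 25, 11, 4, 38, 24],
    [16, 14, 2, 3, 27, 30, 24, 7, 39, 33, 36, 11, 21, 12, 20, 15, 18, 17, 0, 19, 1, 13, 8, 23, 31, 10, 26, 28, 4, 29, 37, 6, 32, 34, 9, 35, 25, 5, 38, 22],
    [17, 15, 2, 28, 4, 27, 39, 22, 8, 9, 33, 34, 19, 13, 12, 21, 0, 16, 18, 14, 20, 1, 31, 6, 24, 11, 26, 29, 37, 5, 30, 7, 32, 35, 25, 10, 36, 3, 38, 23],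
    [21, 16, 2, 35, 4, 31, 25, 29, 8, 9, 37, 23, 14, 1, 18, 15, 13, 17, 12, 19, 0, 20, 22, 32, 10, 30, 3, 27, 28, 38, 6, 36, 11, 33, 34, 26, 5, 24, 7, 39],
    [19, 17, 2, 31, 36, 5, 6, 25, 30, 24, 10, 37, 15, 13, 1, 16, 12, 14, 18, 21, 20, 0, 11, 23, 32, 28, 4, 27, 7, 29, 38, 34, 9, 33, 3, 35, 26, 22, 8, 39],
    [20, 18, 2, 3, 31, 34, 28, 7, 25, 37, 22, 11, 13, 17, 14, 1, 16, 12, 15, 0, 19, 21, 32, 9, 24, 29, 5, 27, 38, 8, 30, 35, 10, 33, 26, 4, 36, 23, 6, 39],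
    [24, 1, 34, 3, 33, 14, 6, 31, 17, 9, 32, 20, 29, 13, 38, 4, 16, 39, 7, 19, 37, 10, 22, 0, 23, 25, 26, 27, 2, 36, 30, 18, 21, 15, 28, 35, 12, 11, 5, 8],
    [22, 1, 35, 15, 4, 33, 18, 7, 31, 21, 10, 32, 30, 5, 14, 38, 8, 17, 39, 11, 20, 37, 24, 23, 0, 25, 26, 27, 28, 2, 34, 16, 19, 13, 12, 29, 36, 9, 3, 6],
    [23, 1, 36, 33, 13, 5, 31, 16, 8, 32, 19, 11, 28, 38, 3, 15, 39, 6, 18, 37, 9, 21, 0, 22, 24, 25, 26, 27, 35, 29, 2, 17, 20, 14, 34, 12, 30, 10, 4, 7],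
    [0, 27, 37, 3, 4, 5, 30, 28, 29, 16, 17, 18, 32, 13, 14, 15, 35, 36, 34, 6, 7, 8, 22, 23, 24, 25, 1, 26, 20, 21, 19, 2, 39, 33, 11, 9, 10, 31, 38, 12],
    [0, 25, 38, 19, 20, 21, 6, 7, 8, 30, 28, 29, 33, 9, 10, 11, 16, 17, 18, 35, 36, 34, 22, 23, 24, 27, 26, 1, 14, 15, 13, 31, 2, 37, 5, 3, 4, 12, 32, 39],
    [0, 26, 39, 30, 28, 29, 13, 14, 15, 9, 10, 11, 31, 35, 36, 34, 3, 4, 5, 19, 20, 21, 22, 23, 24, 1, 25, 27, 17, 18, 16, 38, 32, 2, 8, 6, 7, 37, 12, 33],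
    [30, 1, 22, 37, 17, 5, 38, 20, 8, 39, 14, 11, 35, 13, 26, 9, 16, 27, 3, 19, 25, 6, 34, 23, 12, 7, 10, 4, 28, 0, 29, 31, 32, 33, 2, 24, 36, 18, 21, 15],
    [28, 1, 23, 3, 37, 18, 6, 38, 21, 9, 39, 15, 36, 10, 14, 26, 4, 17, 27, 7, 20, 25, 12, 35, 24, 8, 11, 5, 30, 29, 0, 31, 32, 33, 34, 2, 22, 16, 19, 13],
    [29, 1, 24, 16, 4, 37, 19, 7, 38, 13, 10, 39, 34, 26, 11, 15, 27, 5, 18, 25, 8, 21, 22, 12, 36, 6, 9, 3, 0, 28, 30, 31, 32, 33, 23, 35, 2, 17, 20, 14],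
    [0, 33, 25, 34, 35, 36, 17, 18, 16, 9, 10, 11, 38, 13, 14, 15, 23, 24, 22, 5, 3, 4, 7, 8, 6, 37, 26, 12, 28, 29, 30, 31, 1, 32, 20, 21, 19, 2, 27, 39],
    [0, 31, 26, 3, 4, 5, 34, 35, 36, 20, 21, 19, 39, 8, 6, 7, 16, 17, 18, 23, 24, 22, 10, 11, 9, 12, 38, 27, 28, 29, 30, 33, 32, 1, 14, 15, 13, 37, 2, 25],
    [0, 32, 27, 14, 15, 13, 6, 7, 8, 34, 35, 36, 37, 23, 24, 22, 11, 9, 10, 19, 20, 21, 4, 5, 3, 25, 12, 39, 28, 29, 30, 1, 31, 33, 17, 18, 16, 26, 38, 2],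
    [36, 1, 28, 20, 4, 26, 14, 7, 27, 17, 10, 25, 23, 13, 32, 8, 16, 33, 11, 19, 31, 5, 2, 30, 24, 18, 21, 15, 22, 29, 12, 3, 6, 9, 34, 0, 35, 37, 38, 39],
    [34, 1, 29, 26, 21, 5, 27, 15, 8, 25, 18, 11, 24, 6, 14, 32, 9, 17, 33, 3, 20, 31, 22, 2, 28, 16, 19, 13, 12, 23, 30, 4, 7, 10, 36, 35, 0, 37, 38, 39],
    [35, 1, 30, 3, 26, 19, 6, 27, 13, 9, 25, 16, 22, 32, 7, 15, 33, 10, 18, 31, 4, 21, 29, 23, 2, 17, 20, 14, 28, 12, 24, 5, 8, 11, 0, 34, 36, 37, 38, 39],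
    [0, 39, 31, 18, 16, 17, 6, 7, 8, 23, 24, 22, 26, 13, 14, 15, 29, 30, 28, 10, 11, 9, 20, 21, 19, 2, 33, 27, 3, 4, 5, 25, 32, 12, 34, 35, 36, 37, 1, 38],
    [0, 37, 32, 23, 24, 22, 21, 19, 20, 9, 10, 11, 27, 4, 5, 3, 16, 17, 18, 29, 30, 28, 14, 15, 13, 25, 2, 31, 6, 7, 8, 12, 26, 33, 34, 35, 36, 39, 38, 1],
    [0, 38, 33, 3, 4, 5, 23, 24, 22, 15, 13, 14, 25, 29, 30, 28, 7, 8, 6, 19, 20, 21, 17, 18, 16, 32, 26, 2, 9, 10, 11, 31, 12, 27, 34, 35, 36, 1, 37, 39]]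

/-- The anisotropic points, as vectors. -/
def ptU (i : Fin 40) (k : Fin 4) : FieldFour := (tabU.getD i.val []).getD k.val .o

/-- The symplectic points, as vectors. -/
def ptS (i : Fin 40) : Fin 2 ⊕ Fin 2 → ZMod 3 :=
  Sum.elim (fun k => (tabS.getD i.val []).getD k.val 0)
    (fun k => (tabS.getD i.val []).getD (k.val + 2) 0)

/-- The permutation of the `i`th generator. -/
def perm (i q : Fin 40) : Fin 40 := (permTab.getD i.val []).getD q.val 0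

/-- The unitary generator. -/
def genU (i : Fin 40) : Matrix (Fin 4) (Fin 4) FieldFour :=
  Matrix.of fun k l => FieldFour.v * ((if k = l then 1 else 0) +
    FieldFour.v * (ptU i k * (ptU i l * ptU i l)))

/-- The symplectic generator. -/
def genS (i : Fin 40) : Matrix (Fin 2 ⊕ Fin 2) (Fin 2 ⊕ Fin 2) (ZMod 3) :=
  Cfsg.sympTransvection 2 (ptS i) 2

/-- `genU i` applied to a vector, in expanded form. -/
def applyU (i : Fin 40) (x : Fin 4 → FieldFour) (k : Fin 4) : FieldFour :=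
  genU i k 0 * x 0 + genU i k 1 * x 1 + genU i k 2 * x 2 + genU i k 3 * x 3

theorem applyU_eq (i : Fin 40) (x : Fin 4 → FieldFour) : applyU i x = Matrix.mulVec (genU i) x := by
  funext k
  simp [applyU, Matrix.mulVec, dotProduct, Fin.sum_univ_four]

theorem applyU_perm : ∀ i q : Fin 40, ∃ c : FieldFour, ∀ k,
    applyU i (ptU q) k = c * ptU (perm i q) k := by
  decide +kernel

/-- `genS i` applied to a vector, in expanded form. -/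
def applyS (i : Fin 40) (x : Fin 2 ⊕ Fin 2 → ZMod 3) (k : Fin 2 ⊕ Fin 2) : ZMod 3 :=
  x k + 2 * (-(ptS i (.inr 0)) * x (.inl 0) - ptS i (.inr 1) * x (.inl 1)
    + ptS i (.inl 0) * x (.inr 0) + ptS i (.inl 1) * x (.inr 1)) * ptS i k

theorem applyS_eq (i : Fin 40) (x : Fin 2 ⊕ Fin 2 → ZMod 3) :
    applyS i x = Matrix.mulVec (genS i) x := by
  funext k
  simp [applyS, genS, Cfsg.sympTransvection, Matrix.mulVec, dotProduct, Fintype.sum_sum_type,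
    Matrix.J, Matrix.fromBlocks, Matrix.vecMulVec, Matrix.one_apply, Fin.sum_univ_two]
  rcases k with k | k <;> fin_cases k <;> simp <;> ring

theorem applyS_perm : ∀ i q : Fin 40, (∀ k, applyS i (ptS q) k = ptS (perm i q) k) ∨
    (∀ k, applyS i (ptS q) k = -ptS (perm i q) k) := by
  decide +kernel

theorem genU_unitary : ∀ i : Fin 40, ∀ k l : Fin 4,
    genU i 0 k * (genU i 0 l * genU i 0 l) + genU i 1 k * (genU i 1 l * genU i 1 l) +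
    genU i 2 k * (genU i 2 l * genU i 2 l) + genU i 3 k * (genU i 3 l * genU i 3 l) =
      if k = l then 1 else 0 := by
  decide +kernel

theorem genU_det : ∀ i : Fin 40, (genU i).det = 1 := by
  decide +kernel

theorem ptS_cover : ∀ a b c d : ZMod 3, (a = 0 ∧ b = 0 ∧ c = 0 ∧ d = 0) ∨ ∃ i : Fin 40,
    (∀ k, Sum.elim ![a, b] ![c, d] k = ptS i k) ∨ (∀ k, Sum.elim ![a, b] ![c, d] k = -ptS i k) := by
  decide +kernel

theorem ptS_injective : ∀ i j : Fin 40,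
    ((∀ k, ptS i k = ptS j k) ∨ (∀ k, ptS i k = -ptS j k)) → i = j := by
  decide +kernel

theorem ptU_injective : ∀ i j : Fin 40, ∀ c : FieldFour, (∀ k, ptU i k = c * ptU j k) → i = j := by
  decide +kernel

/-- Six points forcing a matrix fixing them to be scalar. -/
def frame : Fin 6 → Fin 40 := ![12, 2, 1, 0, 25, 3]

theorem ptU_frame : ∀ t k, ptU (frame t) k =
    ![![1, 0, 0, 0], ![0, 1, 0, 0], ![0, 0, 1, 0], ![0, 0, 0, 1], ![1, 1, 1, 0], ![0, 1, 1, 1]] t k := by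
  decide +kernel

end CfsgLib.Classical.UFourTwo
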