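import Cfsg.Agent.Lib.Classical.SmallOrtho.Alt
import Cfsg.Agent.Lib.Classical.SmallOrtho.Ext
import Cfsg.Agent.Lib.Classical.Unitary.MatrixStructure

/-!
`PΩ⁻₆(q) ≅ PSU₄(q)`.
-/

set_option autoImplicit false

namespace CfsgLib.Classical.SmallOrtho

open QuadraticMap CfsgLib.Classical.Quad Matrix
open scoped MatrixGroups commutatorElement

variable {F K : Type*} [Field F] [Field K] {a b : F}

/-- The alternating matrices fixed by the twisted duality. -/
def fixMat (σ : K →+* K) (u w z : K) : Matrix (Fin 4) (Fin 4) K :=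
  altMat u w z (σ z) (-σ w) (σ u)

theorem map_dualM_fixMat {σ : K →+* K} (hσ : ∀ x, σ (σ x) = x) (u w z : K) :
    (dualM (fixMat σ u w z)).map σ = -fixMat σ u w z := by
  ext i j
  fin_cases i <;> fin_cases j <;> simp [dualM, fixMat, altMat, hσ]

set_option maxHeartbeats 3200000 in
theorem dualM_congr (A : Matrix (Fin 4) (Fin 4) K) (p01 p02 p03 p12 p13 p23 : K) :
    Aᵀ * dualM (A * altMat p01 p02 p03 p12 p13 p23 * Aᵀ) * A =
      A.det • dualM (altMat p01 p02 p03 p12 p13 p23) := by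
  ext i j
  fin_cases i <;> fin_cases j <;>
    simp [dualM, altMat, Matrix.mul_apply, Fin.sum_univ_four, Matrix.det_succ_row_zero,
      Fin.sum_univ_succ, Fin.succAbove] <;> ring

/-- The auxiliary constants of the hyperbolic decomposition. -/
structure Split (X : QuadExt F K a b) where
  /-- trace one, orthogonal to θ -/
  μ : K
  /-- trace zero, dual to θ -/
  ν : K
  /-- norm minus one -/
  ε : K
  trμ : μ + X.σ μ = 1
  trθμ : X.θ * μ + X.σ X.θ * X.σ μ = 0
  trν : ν + X.σ ν = 0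
  trθν : X.θ * ν + X.σ X.θ * X.σ ν = 1
  normε : ε * X.σ ε = -1

variable {X : QuadExt F K a b} (S : Split X)

/-- `α`. -/
def Split.al (_S : Split X) (v : (Fin 2 ⊕ Fin 2) ⊕ Fin 2 → F) : K :=
  X.ψ (v (.inl (.inl 0))) + X.θ * X.ψ (v (.inl (.inl 1)))

/-- `β`. -/
def Split.be (v : (Fin 2 ⊕ Fin 2) ⊕ Fin 2 → F) : K :=
  X.σ S.μ * X.ψ (v (.inl (.inr 0))) + X.σ S.ν * X.ψ (v (.inl (.inr 1)))

/-- The embedding of the minus space. -/
def Split.map : ((Fin 2 ⊕ Fin 2) ⊕ Fin 2 → F) →ₛₗ[X.ψ] Matrix (Fin 4) (Fin 4) K where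
  toFun v := fixMat X.σ (S.al v + S.μ * S.be v) (S.ε * (S.al v - X.σ S.μ * S.be v))
    (X.ψ (v (.inr 0)) + X.θ * X.ψ (v (.inr 1)))
  map_add' v w := by
    simp only [fixMat, Split.al, Split.be, Pi.add_apply, map_add, map_sub, map_mul, X.σ_ψ, X.invol,
      ← altMat_add]
    congr 1 <;> ring
  map_smul' c v := by
    simp only [fixMat, Split.al, Split.be, Pi.smul_apply, smul_eq_mul, map_add, map_sub, map_mul,
      X.σ_ψ, X.invol, ← altMat_smul]
    congr 1 <;> ring

theorem Split.pf_map (v : (Fin 2 ⊕ Fin 2) ⊕ Fin 2 → F) :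
    pf (S.map v) = X.ψ (Cfsg.quadFormMinus 2 F a b v) := by
  have h1 : pf (S.map v) = S.al v * X.σ (S.be v) + X.σ (S.al v) * S.be v +
      (X.ψ (v (.inr 0)) + X.θ * X.ψ (v (.inr 1))) *
        X.σ (X.ψ (v (.inr 0)) + X.θ * X.ψ (v (.inr 1))) := by
    simp only [Split.map, LinearMap.coe_mk, AddHom.coe_mk, fixMat, pf_altMat, map_add, map_sub,
      map_mul, X.invol]
    linear_combination (S.al v * X.σ (S.be v) + X.σ (S.al v) * S.be v) * S.trμ +
      ((S.al v - X.σ S.μ * S.be v) * (X.σ (S.al v) - S.μ * X.σ (S.be v))) * S.normε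
  rw [h1]
  simp only [Split.al, Split.be, Cfsg.quadFormMinus, Fin.sum_univ_two, map_add, map_mul, map_pow,
    X.σ_ψ, X.invol, ← X.trace_θ, ← X.norm_θ]
  linear_combination X.ψ (v (.inl (.inl 0))) * X.ψ (v (.inl (.inr 0))) * S.trμ +
    X.ψ (v (.inl (.inl 0))) * X.ψ (v (.inl (.inr 1))) * S.trν +
    X.ψ (v (.inl (.inl 1))) * X.ψ (v (.inl (.inr 0))) * S.trθμ +
    X.ψ (v (.inl (.inl 1))) * X.ψ (v (.inl (.inr 1))) * S.trθν

theorem Split.ε_ne : S.ε ≠ 0 := fun h => by
  have := S.normε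
  rw [h, zero_mul] at this
  exact one_ne_zero (neg_eq_zero.1 this.symm)

theorem Split.map_injective : Function.Injective S.map := by
  intro v w h
  have h01 := congrFun (congrFun h 0) 1
  have h02 := congrFun (congrFun h 0) 2
  have h03 := congrFun (congrFun h 0) 3
  simp [Split.map, fixMat, altMat] at h01 h02 h03
  have hw : S.al v - X.σ S.μ * S.be v = S.al w - X.σ S.μ * S.be w :=
    h02.resolve_right S.ε_ne
  have hbe : S.be v = S.be w := by
    linear_combination h01 - hw - (S.be v - S.be w) * S.trμ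
  have hal : S.al v = S.al w := by rw [hbe] at h01; exact add_right_cancel h01
  obtain ⟨hx0, hx1⟩ := X.coord_unique hal
  obtain ⟨hz0, hz1⟩ := X.coord_unique h03
  have hbe' := congrArg X.σ hbe
  simp only [Split.be, map_add, map_mul, X.invol, X.σ_ψ] at hbe'
  have hb : X.σ S.μ * X.ψ (v (.inl (.inr 0))) + X.σ S.ν * X.ψ (v (.inl (.inr 1))) =
      X.σ S.μ * X.ψ (w (.inl (.inr 0))) + X.σ S.ν * X.ψ (w (.inl (.inr 1))) := hbe
  have hy0 : X.ψ (v (.inl (.inr 0))) = X.ψ (w (.inl (.inr 0))) := by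
    linear_combination hbe' + hb - (X.ψ (v (.inl (.inr 0))) - X.ψ (w (.inl (.inr 0)))) * S.trμ -
      (X.ψ (v (.inl (.inr 1))) - X.ψ (w (.inl (.inr 1)))) * S.trν
  have hy1 : X.ψ (v (.inl (.inr 1))) = X.ψ (w (.inl (.inr 1))) := by
    linear_combination X.θ * hbe' + X.σ X.θ * hb -
      (X.ψ (v (.inl (.inr 0))) - X.ψ (w (.inl (.inr 0)))) * S.trθμ -
      (X.ψ (v (.inl (.inr 1))) - X.ψ (w (.inl (.inr 1)))) * S.trθν
  funext x
  rcases x with (i | i) | i <;> fin_cases i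
  exacts [hx0, hx1, X.ψ.injective hy0, X.ψ.injective hy1, hz0, hz1]

theorem Split.exists_map (u w z : K) : ∃ v, S.map v = fixMat X.σ u w z := by
  set w' := w / S.ε with hw'
  set β := u - w' with hβ
  set α := u - S.μ * β with hα
  obtain ⟨x0, x1, hx⟩ := X.exists_coord α
  obtain ⟨z0, z1, hz⟩ := X.exists_coord z
  have hfix0 : X.σ (β + X.σ β) = β + X.σ β := by rw [map_add, X.invol, add_comm]
  have hfix1 : X.σ (X.θ * X.σ β + X.σ X.θ * β) = X.θ * X.σ β + X.σ X.θ * β := by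
    rw [map_add, map_mul, map_mul, X.invol, X.invol, add_comm]
  obtain ⟨y0, hy0⟩ := (X.fixed _).1 hfix0
  obtain ⟨y1, hy1⟩ := (X.fixed _).1 hfix1
  refine ⟨Sum.elim (Sum.elim ![x0, x1] ![y0, y1]) ![z0, z1], ?_⟩
  have hbe : S.be (Sum.elim (Sum.elim ![x0, x1] ![y0, y1]) ![z0, z1]) = β := by
    have hd : X.θ - X.σ X.θ ≠ 0 := sub_ne_zero.2 X.ne
    simp only [Split.be, Sum.elim_inl, Sum.elim_inr, Matrix.cons_val_zero, Matrix.cons_val_one, hy0,
      hy1]
    refine mul_left_cancel₀ hd ?_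
    linear_combination (X.θ * (β + X.σ β) - (X.θ * X.σ β + X.σ X.θ * β)) * S.trμ -
      (β + X.σ β) * S.trθμ + (X.θ * (X.θ * X.σ β + X.σ X.θ * β)) * S.trν -
      (X.θ * X.σ β + X.σ X.θ * β) * S.trθν + (X.θ * X.σ β + X.σ X.θ * β) * S.trμ
  have hal : S.al (Sum.elim (Sum.elim ![x0, x1] ![y0, y1]) ![z0, z1]) = α := by
    simp only [Split.al, Sum.elim_inl, Matrix.cons_val_zero, Matrix.cons_val_one]
    exact hx.symm
  simp only [Split.map, LinearMap.coe_mk, AddHom.coe_mk, hbe, hal, Sum.elim_inr,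
    Matrix.cons_val_zero, Matrix.cons_val_one, ← hz]
  congr 1
  · rw [hα]; ring
  · have h : α - X.σ S.μ * β = w' := by
      rw [hα, hβ]; linear_combination -(u - w') * S.trμ
    rw [h, hw', mul_div_cancel₀ _ S.ε_ne]

theorem exists_split {X : QuadExt F K a b} (hε : ∃ ε : K, ε * X.σ ε = -1) : Nonempty (Split X) := by
  obtain ⟨ε, hε⟩ := hε
  have hd : X.θ - X.σ X.θ ≠ 0 := sub_ne_zero.2 X.ne
  have hd' : X.σ X.θ - X.θ ≠ 0 := sub_ne_zero.2 X.ne.symm
  refine ⟨⟨-X.σ X.θ / (X.θ - X.σ X.θ), 1 / (X.θ - X.σ X.θ), ε, ?_, ?_, ?_, ?_, hε⟩⟩ <;>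
    simp only [map_div₀, map_neg, map_sub, map_one, X.invol] <;> field_simp <;> ring

/-- The unitary group as matrices. -/
def suMat (K : Type*) [Field K] (q : ℕ) : ↥(Cfsg.SU 4 K q) →* Matrix (Fin 4) (Fin 4) K :=
  (slMat (Fin 4) K).comp (Cfsg.SU 4 K q).subtype

theorem suMat_injective {q : ℕ} : Function.Injective (suMat K q) :=
  slMat_injective.comp Subtype.val_injective

theorem suMat_eq {q : ℕ} (hσ : ∀ x, X.σ x = x ^ q) (A : Cfsg.SU 4 K q) :
    (suMat K q A)ᵀ * (suMat K q A).map X.σ = 1 := by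
  ext k l
  have h := A.2 (Pi.single k 1) (Pi.single l 1)
  have e : ∀ m i, (Cfsg.slToMat 4 K (A : SL(4, K)) *ᵥ Pi.single m 1) i =
      suMat K q A i m := fun m i => by
    rw [Matrix.mulVec_single_one]; rfl
  simp only [Cfsg.hermForm, e, ← hσ] at h
  rw [Matrix.mul_apply]
  simp only [Matrix.transpose_apply, Matrix.map_apply]
  rw [h, Matrix.one_apply]
  rcases eq_or_ne k l with rfl | hkl
  · rw [Finset.sum_eq_single k (fun i _ hi => by simp [hi]) (by simp)]
    simp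
  · rw [if_neg hkl]
    refine Finset.sum_eq_zero fun i _ => ?_
    by_cases hi : i = k
    · simp [hi, hkl]
    · simp [hi]

theorem congr_fixMat_mem {q : ℕ} (hσ : ∀ x, X.σ x = x ^ q) (A : Cfsg.SU 4 K q) (u w z : K) :
    ∃ u' w' z', fixMat X.σ u' w' z' = suMat K q A * fixMat X.σ u w z * (suMat K q A)ᵀ := by
  set L := suMat K q A with hL
  set M := fixMat X.σ u w z with hM
  set N := L * M * Lᵀ with hN
  have hdet : L.det = 1 := (A : SL(4, K)).det_coe
  have hLσ : Lᵀ * L.map X.σ = 1 := suMat_eq hσ A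
  have hσL : L.map X.σ * Lᵀ = 1 := mul_eq_one_comm.1 hLσ
  have hLc : L * (L.map X.σ)ᵀ = 1 := by
    have := congrArg Matrix.transpose hσL
    rwa [Matrix.transpose_mul, Matrix.transpose_transpose, Matrix.transpose_one] at this
  have hid : Lᵀ * dualM N * L = dualM M := by
    rw [hN, hM, fixMat, dualM_congr, hdet, one_smul]
  have hkey : (dualM N).map X.σ = -N := by
    have h1 : (L.map X.σ)ᵀ * (dualM N).map X.σ * L.map X.σ = -M := by
      rw [← Matrix.transpose_map, ← Matrix.map_mul, ← Matrix.map_mul, hid, hM,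
        map_dualM_fixMat X.invol]
    calc (dualM N).map X.σ
        = L * ((L.map X.σ)ᵀ * (dualM N).map X.σ * L.map X.σ) * Lᵀ := by
          simp only [Matrix.mul_assoc]
          rw [hσL, Matrix.mul_one, ← Matrix.mul_assoc, hLc, Matrix.one_mul]
      _ = -N := by rw [h1, hN, Matrix.mul_neg, Matrix.neg_mul]
  have h01 := congrFun (congrFun hkey 0) 1
  have h02 := congrFun (congrFun hkey 0) 2
  have h03 := congrFun (congrFun hkey 0) 3
  simp [dualM, altMat, Matrix.map_apply] at h01 h02 h03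
  refine ⟨N 0 1, N 0 2, N 0 3, ?_⟩
  have halt : altOf N = N := altOf_congr _ _ _ _ _ _ _
  conv_rhs => rw [← halt]
  rw [altOf, fixMat]
  congr 1
  · rw [← h03, X.invol]
  · rw [show N 0 2 = -X.σ (N 1 3) by rw [h02, neg_neg], map_neg, X.invol, neg_neg]
  · rw [← h01, X.invol]

/-- The twisted exterior square model. -/
def Split.model {q : ℕ} (hσ : ∀ x, X.σ x = x ^ q) :
    Model (qMinus 2 F a b) ↥(Cfsg.SU 4 K q) (Matrix (Fin 4) (Fin 4) K) X.ψ where
  E := S.map
  T := congrAct (suMat K q)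
  Φ := pf
  inj := S.map_injective
  mem A v := by
    obtain ⟨u, w, z, h⟩ := congr_fixMat_mem hσ A (S.al v + S.μ * S.be v)
      (S.ε * (S.al v - X.σ S.μ * S.be v)) (X.ψ (v (.inr 0)) + X.θ * X.ψ (v (.inr 1)))
    obtain ⟨v', hv'⟩ := S.exists_map u w z
    exact ⟨v', hv'.trans h⟩
  eval v := by rw [S.pf_map, coe_qMinus]
  invariant A v := by
    show pf (suMat K q A * S.map v * (suMat K q A)ᵀ) = pf (S.map v)
    simp only [Split.map, LinearMap.coe_mk, AddHom.coe_mk, fixMat, pf_congr, pf_altMat,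
      show (suMat K q A).det = 1 from (A : SL(4, K)).det_coe, one_mul]

theorem nonempty_pomega_six_minus [Fintype F] [Fintype K] {q : ℕ} (hF : Fintype.card F = q)
    (hK : Fintype.card K = q ^ 2) {a b : F}
    (hab : ∀ z₁ z₂ : F, z₁ ^ 2 + a * z₁ * z₂ + b * z₂ ^ 2 = 0 → z₁ = 0 ∧ z₂ = 0) :
    Nonempty (Cfsg.POmega F (Cfsg.quadFormMinus 2 F a b) ≃* Cfsg.PSU 4 K q) := by
  classical
  have hq2 : 2 ≤ q := hF ▸ Fintype.one_lt_card
  obtain ⟨X, hσ⟩ := exists_quadExt hF hK hab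
  have hεe : ∃ ε : K, ε * X.σ ε = -1 := by
    obtain ⟨u, hu⟩ := CfsgLib.Classical.exists_norm_eq hK (μ := (-1 : K)) (by simp)
      (by rw [← hσ, map_neg, map_one])
    exact ⟨u, by rw [hσ, ← pow_succ', hu]⟩
  obtain ⟨S⟩ := exists_split (X := X) hεe
  have hperf : commutator (Cfsg.SU 4 K q) = ⊤ := by
    rw [eq_top_iff, ← Herm.su_closure_transvections hK 4 (by norm_num) (by norm_num)]
    refine (Subgroup.closure_le _).2 ?_
    rintro A ⟨v, c, hv, hA⟩
    rw [commutator_eq_closure]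
    exact Subgroup.subset_closure
      (Herm.transvection_mem_commutatorSet hK (by norm_num) A v c hv hA)
  set M := S.model hσ with hM
  have hkey : ∀ A ∈ M.hom.ker, suMat K q A = Matrix.scalar (Fin 4) (suMat K q A 0 0) ∧
      suMat K q A 0 0 ^ 2 = 1 := by
    intro A hA
    rw [Model.mem_ker_iff] at hA
    refine eq_scalar_of_fix _ fun p01 p02 p03 p12 p13 p23 => ?_
    have hd : X.θ - X.σ X.θ ≠ 0 := sub_ne_zero.2 X.ne
    have hd' : X.σ X.θ - X.θ ≠ 0 := sub_ne_zero.2 X.ne.symm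
    set t1 := (p01 - X.σ p23) / (X.θ - X.σ X.θ) with ht1
    set t2 := (p02 + X.σ p13) / (X.θ - X.σ X.θ) with ht2
    set t3 := (p03 - X.σ p12) / (X.θ - X.σ X.θ) with ht3
    have hsplit : altMat p01 p02 p03 p12 p13 p23 =
        fixMat X.σ (p01 - X.θ * t1) (p02 - X.θ * t2) (p03 - X.θ * t3) +
          X.θ • fixMat X.σ t1 t2 t3 := by
      simp only [fixMat, ← altMat_smul, ← altMat_add, ht1, ht2, ht3, map_sub, map_mul, map_div₀,
        map_add, X.invol]
      congr 1 <;> field_simp <;> ring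
    have hfix : ∀ u w z, suMat K q A * fixMat X.σ u w z * (suMat K q A)ᵀ = fixMat X.σ u w z := by
      intro u w z
      obtain ⟨v, hv⟩ := S.exists_map u w z
      rw [← hv]
      exact hA v
    rw [hsplit, Matrix.mul_add, Matrix.add_mul, Matrix.mul_smul, Matrix.smul_mul, hfix, hfix]
  have h := nonempty_pomega_equiv_of_fourGen (qMinus_nondeg hab 2) (Or.inr (by simp)) (by simp)
    M.hom (fourGen_of_perfect hperf)
    (fun A hA => ker_le_center_of_scalar _ suMat_injective (hkey A hA).1)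
    (card_ker_le_sqrt _ suMat_injective X.ψ _ hkey)
    (by
      have hc := Herm.card_SU hK 4 (by norm_num)
      simp [Finset.prod_range_succ, Nat.even_iff] at hc
      rw [card_OQ_qMinus hF 2 hab]
      simp only [Finset.prod_range_succ, Finset.prod_range_zero, one_mul, Nat.reduceAdd,
        Nat.reduceMul]
      refine Nat.le_of_mul_le_mul_left ?_ (show 0 < q + 1 by omega)
      apply le_of_eq
      rw [Nat.card_eq_fintype_card (α := ↥(Cfsg.SU 4 K q))] at *
      rw [show (q + 1) * (2 * Fintype.card ↥(Cfsg.SU 4 K q)) =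
        2 * ((q + 1) * Fintype.card ↥(Cfsg.SU 4 K q)) by ring, hc]
      ring)
    (fun g => mem_center_of_commutator_central_of_perfect hperf)
  rw [coe_qMinus] at h
  exact h

end CfsgLib.Classical.SmallOrtho
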